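import Mathlib.AlgebraicGeometry.Morphisms.Etale
import Mathlib.AlgebraicGeometry.Morphisms.FiniteType
import Mathlib.RingTheory.Jacobson.Ring
import Mathlib.FieldTheory.IsAlgClosed.Basic

/-! Sections over an algebraically closed field. -/

set_option autoImplicit false

universe u

open CategoryTheory AlgebraicGeometry

namespace Groth.Agent.StkTwLib

theorem exists_section {K : Type u} [Field K] [IsAlgClosed K] {S' : Scheme.{u}} [Nonempty S']
    (f : S' ⟶ Spec (CommRingCat.of K)) [LocallyOfFiniteType f] :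
    ∃ w : Spec (CommRingCat.of K) ⟶ S', w ≫ f = 𝟙 _ := by
  obtain ⟨y⟩ := ‹Nonempty S'›
  obtain ⟨U, hU, hyU, -⟩ := exists_isAffineOpen_mem_and_subset (x := y) (U := ⊤) trivial
  obtain ⟨r, hr⟩ := Spec.map_surjective (hU.fromSpec ≫ f)
  letI : Algebra K Γ(S', U) := r.hom.toAlgebra
  haveI : Algebra.FiniteType K Γ(S', U) := by
    refine (HasRingHomProperty.Spec_iff (P := @LocallyOfFiniteType) (φ := r)).1 ?_
    rw [hr]
    infer_instance
  obtain ⟨w, -⟩ : y ∈ Set.range hU.fromSpec.base := by rw [hU.range_fromSpec]; exact hyU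
  haveI : Nontrivial Γ(S', U) := PrimeSpectrum.nonempty_iff_nontrivial.1 ⟨w⟩
  obtain ⟨m, hm⟩ := Ideal.exists_maximal Γ(S', U)
  letI := Ideal.Quotient.field m
  haveI : Algebra.FiniteType K (Γ(S', U) ⧸ m) :=
    .of_surjective (Ideal.Quotient.mkₐ K m) (Ideal.Quotient.mkₐ_surjective K m)
  haveI : Module.Finite K (Γ(S', U) ⧸ m) := finite_of_finite_type_of_isJacobsonRing _ _
  let ψ : Γ(S', U) ⧸ m →ₐ[K] K := IsAlgClosed.lift
  let q : Γ(S', U) →ₐ[K] K := ψ.comp (Ideal.Quotient.mkₐ K m)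
  refine ⟨Spec.map (CommRingCat.ofHom q.toRingHom) ≫ hU.fromSpec, ?_⟩
  rw [Category.assoc, ← hr, ← Spec.map_comp, ← Spec.map_id]
  congr 1
  ext c
  exact q.commutes c

end Groth.Agent.StkTwLib
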