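import Groth.Agent.StkTwLib.Points
import Groth.Agent.GrpSchLib.Action
import Groth.Prelude.Def_AlgGrp
import Mathlib.FieldTheory.Finite.GaloisField

/-! Equivariant morphisms out of a torsor from their value at one Galois point. -/

set_option autoImplicit false
set_option linter.style.haveILetI false
set_option backward.isDefEq.respectTransparency false
set_option backward.isDefEq.respectTransparency.types false

universe u

open CategoryTheory CategoryTheory.Limits AlgebraicGeometry MonoidalCategory CartesianMonoidalCategory MonObj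

namespace Groth.Agent.StkTwLib

open GalTw

section General

variable {S : Scheme.{u}} {G P Y Z Z' : Over S} [GrpObj G]

/-- Pointwise action. -/
noncomputable def sm (a : AlgGrp.Action G Y) (g : Z ⟶ G) (x : Z ⟶ Y) : Z ⟶ Y := lift g x ≫ a.act

theorem comp_sm (a : AlgGrp.Action G Y) (r : Z' ⟶ Z) (g : Z ⟶ G) (x : Z ⟶ Y) :
    r ≫ sm a g x = sm a (r ≫ g) (r ≫ x) := by
  rw [sm, sm, comp_lift_assoc]

theorem sm_one (a : AlgGrp.Action G Y) (x : Z ⟶ Y) : sm a 1 x = x := GrpSchLib.act_one a x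

theorem sm_sm (a : AlgGrp.Action G Y) (g h : Z ⟶ G) (x : Z ⟶ Y) : sm a g (sm a h x) = sm a (g * h) x :=
  GrpSchLib.act_mul a g h x

theorem sm_comp (a : AlgGrp.Action G P) (a' : AlgGrp.Action G Y) (f : P ⟶ Y) (hf : a.act ≫ f = (G ◁ f) ≫ a'.act)
    (g : Z ⟶ G) (x : Z ⟶ P) : sm a g x ≫ f = sm a' g (x ≫ f) := by
  rw [sm, sm, Category.assoc, hf, lift_whiskerLeft_assoc]

/-- A simply transitive action. -/
def IsTrs (a : AlgGrp.Action G P) : Prop :=
  ∀ (Z : Over S) (x y : Z ⟶ P), ∃! d : Z ⟶ G, sm a d y = x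

theorem IsTrs.eq {a : AlgGrp.Action G P} (ht : IsTrs a) {d d' : Z ⟶ G} {y : Z ⟶ P}
    (h : sm a d y = sm a d' y) : d = d' := (ht Z _ y).unique h rfl

theorem isTrs_of_cart {T : Over S} (a : AlgGrp.Action G P) (π : P ⟶ T) (hT : ∀ (Z : Over S) (u v : Z ⟶ T), u = v)
    (cart : IsPullback a.act (snd G P) π π) : IsTrs a := by
  intro Z x y
  let l := cart.lift x y (hT _ _ _)
  refine ⟨l ≫ fst G P, ?_, fun d hd => ?_⟩
  · show lift (l ≫ fst G P) y ≫ a.act = x
    rw [show lift (l ≫ fst G P) y = l from CartesianMonoidalCategory.hom_ext _ _ (lift_fst _ _)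
      ((lift_snd _ _).trans (cart.lift_snd _ _ _).symm)]
    exact cart.lift_fst _ _ _
  · have : lift d y = l := cart.hom_ext (hd.trans (cart.lift_fst _ _ _).symm)
      ((lift_snd _ _).trans (cart.lift_snd _ _ _).symm)
    rw [← this, lift_fst]

end General

section Galois

variable {k : Type u} [Field k] {L : Type u} [Field L] [Algebra k L]
variable {G P X Y : Over (Spec (CommRingCat.of k))}

theorem whiskerLeft_specAut_left (σ : L ≃ₐ[k] L) :
    (Y ◁ SGA7.specAut (K := k) σ).left = galMap L σ Y := by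
  apply pullback.hom_ext
  · rw [galMap_fst]
    exact congrArg (fun m => m.left) (whiskerLeft_fst Y (SGA7.specAut (K := k) σ))
  · rw [galMap_snd]
    exact congrArg (fun m => m.left) (whiskerLeft_snd Y (SGA7.specAut (K := k) σ))

variable [FiniteDimensional k L] [IsGalois k L]

theorem desc (x : Y ⊗ SGA7.pt (K := k) L ⟶ X) (hx : ∀ σ : L ≃ₐ[k] L, (Y ◁ SGA7.specAut σ) ≫ x = x) :
    ∃! g : Y ⟶ X, fst _ _ ≫ g = x := by
  let x' : (Over.map (SGA7.pt (K := k) L).hom).obj (bcK L Y) ⟶ X := Over.homMk x.left (by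
    show x.left ≫ X.hom = pullback.snd _ _ ≫ _
    exact (Over.w x).trans pullback.condition)
  let e := (Over.mapPullbackAdj (SGA7.pt (K := k) L).hom).homEquiv (bcK L Y) X
  have hinv : ∀ σ, twHom σ (e x') = e x' := fun σ => by
    rw [GalTw9.twHom_homEquiv]
    congr 1
    apply Over.OverMorphism.ext
    show galMap L σ Y ≫ x.left = x.left
    rw [← whiskerLeft_specAut_left]
    exact congrArg (fun m => m.left) (hx σ)
  obtain ⟨g, hg, hu⟩ := GalTw9.existsUnique_desc (e x') hinv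
  have key : ∀ g : Y ⟶ X, (GalTw9.bcF k L).map g = e x' ↔ fst _ _ ≫ g = x := by
    intro g
    have he : (e x').left ≫ pullback.fst _ _ = x.left := by
      simp only [e, Over.mapPullbackAdj, Adjunction.mkOfHomEquiv_homEquiv]
      exact pullback.lift_fst _ _ _
    constructor
    · intro h
      apply Over.OverMorphism.ext
      show pullback.fst _ _ ≫ g.left = x.left
      rw [← he, ← h]
      exact (GalTw9.map_left_fst g).symm
    · intro h
      apply Over.OverMorphism.ext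
      apply pullback.hom_ext
      · rw [GalTw9.map_left_fst, he, ← h]
        rfl
      · rw [GalTw9.map_left_snd]
        exact (Over.w (e x')).symm
  exact ⟨g, (key g).1 hg, fun g' h => hu g' ((key g').2 h)⟩

theorem fst_cancel {f g : Y ⟶ X} (h : fst Y (SGA7.pt (K := k) L) ≫ f = fst Y (SGA7.pt (K := k) L) ≫ g) : f = g :=
  (desc (L := L) (fst _ _ ≫ g) fun σ => by rw [whiskerLeft_fst_assoc]).unique h rfl

variable [GrpObj G]

theorem exists_equivariant (a : AlgGrp.Action G P) (ht : IsTrs a) (a' : AlgGrp.Action G Y)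
    (b : SGA7.Pts L P) (β : SGA7.Pts L Y)
    (h : ∀ (σ : L ≃ₐ[k] L) (d : SGA7.Pts L G), sm a d b = σ • b → sm a' d β = σ • β) :
    ∃ f : P ⟶ Y, b ≫ f = β ∧ a.act ≫ f = (G ◁ f) ≫ a'.act := by
  obtain ⟨d, hd, hd'⟩ := ht _ (fst P (SGA7.pt (K := k) L)) (snd _ _ ≫ b)
  obtain ⟨f, hf, -⟩ := desc (X := Y) (sm a' d (snd _ _ ≫ β)) (fun σ => by
    obtain ⟨d₀, hd₀, -⟩ := ht _ (σ • b) b
    have hβ := h σ d₀ hd₀
    simp only [pts_smul_def] at hd₀ hβ
    rw [comp_sm, whiskerLeft_snd_assoc, ← hβ, comp_sm, sm_sm]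
    congr 1
    refine ht.eq (y := snd _ _ ≫ b) ?_
    rw [← sm_sm, ← comp_sm, hd₀, hd, ← whiskerLeft_snd_assoc, ← comp_sm, hd, whiskerLeft_fst])
  have key : ∀ {Z : Over (Spec (CommRingCat.of k))} (r : Z ⟶ P) (s : Z ⟶ SGA7.pt L) (e : Z ⟶ G),
      sm a e (s ≫ b) = r → r ≫ f = sm a' e (s ≫ β) := by
    intro Z r s e he
    calc r ≫ f = lift r s ≫ fst _ _ ≫ f := by rw [lift_fst_assoc]
      _ = sm a' (lift r s ≫ d) (s ≫ β) := by rw [hf, comp_sm, lift_snd_assoc]
      _ = sm a' e (s ≫ β) := by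
        congr 1
        refine ht.eq (y := s ≫ b) ?_
        rw [he]
        conv_lhs => rw [← lift_snd_assoc r s b, ← comp_sm, hd, lift_fst]
  refine ⟨f, ?_, fst_cancel (L := L) ?_⟩
  · rw [key b (𝟙 _) 1 (by rw [sm_one, Category.id_comp]), sm_one, Category.id_comp]
  · let γ := fst (G ⊗ P) (SGA7.pt (K := k) L) ≫ fst G P
    let p := fst (G ⊗ P) (SGA7.pt (K := k) L) ≫ snd G P
    have e1 : fst (G ⊗ P) (SGA7.pt (K := k) L) = lift γ p := by
      apply CartesianMonoidalCategory.hom_ext <;> simp [γ, p]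
    obtain ⟨e, he, -⟩ := ht _ p (snd _ _ ≫ b)
    rw [e1, lift_whiskerLeft_assoc, ← Category.assoc]
    show sm a γ p ≫ f = sm a' γ (p ≫ f)
    rw [key (sm a γ p) _ (γ * e) (by rw [← sm_sm, he]), key p _ e he, sm_sm]

theorem equivariant_ext (a : AlgGrp.Action G P) (ht : IsTrs a) (a' : AlgGrp.Action G Y)
    (b : SGA7.Pts L P) {f f' : P ⟶ Y} (hf : a.act ≫ f = (G ◁ f) ≫ a'.act)
    (hf' : a.act ≫ f' = (G ◁ f') ≫ a'.act) (h : b ≫ f = b ≫ f') : f = f' := by
  refine fst_cancel (L := L) ?_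
  obtain ⟨d, hd, -⟩ := ht _ (fst P (SGA7.pt (K := k) L)) (snd _ _ ≫ b)
  rw [← hd, sm_comp a a' f hf, sm_comp a a' f' hf', Category.assoc, h, Category.assoc]

end Galois

section Closure

variable {k : Type u} [Field k] [Finite k] {B : Type u} [Field B] [Algebra k B] [IsGalois k B]
variable {G P X Y : Over (Spec (CommRingCat.of k))}

/-- The point is defined over a finite subextension. -/
def Lc (x : SGA7.Pts B X) : Prop :=
  ∃ L : IntermediateField k B, FiniteDimensional k L ∧ ∀ σ ∈ L.fixingSubgroup, σ • x = x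

theorem Lc.common {x : SGA7.Pts B X} {y : SGA7.Pts B Y} (hx : Lc x) (hy : Lc y) :
    ∃ L : IntermediateField k B, FiniteDimensional k L ∧ IsGalois k L ∧
      (∃ x' : SGA7.Pts L X, res L.val ≫ x' = x) ∧ ∃ y' : SGA7.Pts L Y, res L.val ≫ y' = y := by
  obtain ⟨L₁, h₁, hx⟩ := hx
  obtain ⟨L₂, h₂, hy⟩ := hy
  haveI : FiniteDimensional k ↥(L₁ ⊔ L₂) := IntermediateField.finiteDimensional_sup L₁ L₂
  haveI : Finite ↥(L₁ ⊔ L₂) := Module.finite_of_finite k
  refine ⟨L₁ ⊔ L₂, ‹_›, inferInstance, ?_, ?_⟩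
  · refine exists_desc_of_fixed (L₁ ⊔ L₂).val (fixed_mem _) x fun σ hσ => hx σ ?_
    exact (IntermediateField.mem_fixingSubgroup_iff _ σ).2 fun c hc => hσ ⟨c, le_sup_left (b := L₂) hc⟩
  · refine exists_desc_of_fixed (L₁ ⊔ L₂).val (fixed_mem _) y fun σ hσ => hy σ ?_
    exact (IntermediateField.mem_fixingSubgroup_iff _ σ).2 fun c hc => hσ ⟨c, le_sup_right (a := L₁) hc⟩

theorem exists_lift_smul {L : IntermediateField k B} [FiniteDimensional k L] [IsGalois k L] (σ : L ≃ₐ[k] L) :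
    ∃ τ : B ≃ₐ[k] B, ∀ {X : Over (Spec (CommRingCat.of k))} (x : SGA7.Pts L X),
      τ • (res L.val ≫ x) = res L.val ≫ (σ • x) := by
  refine ⟨σ.liftNormal B, fun {X} x => ?_⟩
  rw [pts_smul_def, pts_smul_def, ← Category.assoc, ← Category.assoc, specAut_eq_res, specAut_eq_res,
    res_comp, res_comp]
  congr 2
  exact AlgHom.ext fun c => σ.liftNormal_commutes B c

variable [GrpObj G]

theorem exists_equivariant_closure (a : AlgGrp.Action G P) (ht : IsTrs a) (a' : AlgGrp.Action G Y)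
    (b : SGA7.Pts B P) (β : SGA7.Pts B Y) (hb : Lc b) (hβ : Lc β)
    (h : ∀ (σ : B ≃ₐ[k] B) (d : SGA7.Pts B G), sm a d b = σ • b → sm a' d β = σ • β) :
    ∃ f : P ⟶ Y, b ≫ f = β ∧ a.act ≫ f = (G ◁ f) ≫ a'.act := by
  obtain ⟨L, _, _, ⟨b', rfl⟩, β', rfl⟩ := hb.common hβ
  obtain ⟨f, hf1, hf2⟩ := exists_equivariant a ht a' b' β' fun σ d hd => by
    obtain ⟨τ, hτ⟩ := exists_lift_smul (B := B) σ
    refine res_cancel L.val ?_
    rw [comp_sm, ← hτ]
    refine h τ _ ?_
    rw [hτ, ← comp_sm, hd]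
  exact ⟨f, by rw [Category.assoc, hf1], hf2⟩

theorem equivariant_ext_closure (a : AlgGrp.Action G P) (ht : IsTrs a) (a' : AlgGrp.Action G Y)
    (b : SGA7.Pts B P) (hb : Lc b) {f f' : P ⟶ Y} (hf : a.act ≫ f = (G ◁ f) ≫ a'.act)
    (hf' : a.act ≫ f' = (G ◁ f') ≫ a'.act) (h : b ≫ f = b ≫ f') : f = f' := by
  obtain ⟨L, _, _, ⟨b', rfl⟩, -⟩ := hb.common hb
  exact equivariant_ext a ht a' b' hf hf' (res_cancel L.val (by simpa only [Category.assoc] using h))

end Closure

end Groth.Agent.StkTwLib
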