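import Groth.Prelude.Def_StkCnt
import Groth.Prelude.Def_GSzH1
import Groth.Agent.StkTwLib.Desc
import Groth.Agent.StkMassLib.Fibre
import Mathlib.RingTheory.Jacobson.Ring
import Mathlib.FieldTheory.IsAlgClosed.Basic
import Mathlib.AlgebraicGeometry.Morphisms.Etale

/-! Marked objects of a quotient stack over a finite field. -/

set_option autoImplicit false
set_option linter.style.haveILetI false
set_option backward.isDefEq.respectTransparency false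
set_option backward.isDefEq.respectTransparency.types false

universe u

open CategoryTheory CategoryTheory.Limits AlgebraicGeometry MonoidalCategory CartesianMonoidalCategory MonObj

namespace Groth.Agent.StkTwLib

variable {k : Type u} [Field k] {B : Type u} [Field B] [Algebra k B]
variable {G X P : Over (Spec (CommRingCat.of k))} [GrpObj G] {aX : AlgGrp.Action G X}

theorem hom_pt_ext {Z : Over (Spec (CommRingCat.of k))} (f g : Z ⟶ SGA7.pt (K := k) k) : f = g := by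
  have hi : Spec.map (CommRingCat.ofHom (algebraMap k k)) = 𝟙 (Spec (CommRingCat.of k)) := Spec.map_id _
  have h : ∀ f : Z ⟶ SGA7.pt (K := k) k, f.left = Z.hom := fun f => by
    rw [← Over.w f]
    show f.left = f.left ≫ Spec.map (CommRingCat.ofHom (algebraMap k k))
    rw [hi]
    exact (Category.comp_id _).symm
  exact Over.OverMorphism.ext ((h f).trans (h g).symm)

theorem hom_base_ext (A : StkCnt.pts (AlgSt.QuotSt Scheme.etalePrecoverage G aX) k)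
    {Z : Over (Spec (CommRingCat.of k))} (f g : Z ⟶ A.1.base) : f = g :=
  (cancel_mono (eqToHom A.2)).1 (hom_pt_ext _ _)

theorem isTrs_obj (A : StkCnt.pts (AlgSt.QuotSt Scheme.etalePrecoverage G aX) k) : IsTrs A.1.act :=
  isTrs_of_cart A.1.act A.1.π (fun _ u v => hom_base_ext A u v) A.1.cart

theorem smul_sm {Y : Over (Spec (CommRingCat.of k))} (a : AlgGrp.Action G Y) (σ : B ≃ₐ[k] B)
    (g : SGA7.Pts B G) (x : SGA7.Pts B Y) : σ • sm a g x = sm a (σ • g) (σ • x) :=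
  comp_sm a _ g x

theorem smul_comp {Y Y' : Over (Spec (CommRingCat.of k))} (σ : B ≃ₐ[k] B) (x : SGA7.Pts B Y) (f : Y ⟶ Y') :
    (σ • x) ≫ f = σ • (x ≫ f) := Category.assoc _ _ _

/-- `x` is fixed by the action twisted by `z`. -/
def Mk (a : AlgGrp.Action G P) (z : (B ≃ₐ[k] B) → SGA7.Pts B G) (b : SGA7.Pts B P) : Prop :=
  ∀ σ, sm a (z σ) (σ • b) = b

theorem mk_comp (a : AlgGrp.Action G P) (a' : AlgGrp.Action G X) (f : P ⟶ X)
    (hf : a.act ≫ f = (G ◁ f) ≫ a'.act) {z : (B ≃ₐ[k] B) → SGA7.Pts B G} {b : SGA7.Pts B P} (h : Mk a z b) :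
    Mk a' z (b ≫ f) := fun σ => by
  rw [← smul_comp, ← sm_comp a a' f hf, h σ]

theorem mk_move (a : AlgGrp.Action G P) {z z' : (B ≃ₐ[k] B) → SGA7.Pts B G} {b : SGA7.Pts B P}
    (h : Mk a z b) {g : SGA7.Pts B G} (hg : ∀ σ, z' σ * σ • g = g * z σ) : Mk a z' (sm a g b) := fun σ => by
  rw [smul_sm, sm_sm, hg σ, ← sm_sm, h σ]

variable [Finite k] [IsGalois k B]

theorem exists_fixing_one (z : GpH1.OneCocycleLC (B ≃ₐ[k] B) (SGA7.Pts B G)) :
    ∃ L : IntermediateField k B, FiniteDimensional k L ∧ ∀ σ ∈ L.fixingSubgroup, z.1 σ = 1 := by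
  have h1 : z.1 ⁻¹' {z.1 1} ∈ nhds (1 : B ≃ₐ[k] B) := (z.2 {z.1 1}).mem_nhds rfl
  obtain ⟨L, hL, hs⟩ := (krullTopology_mem_nhds_one_iff k B _).1 h1
  exact ⟨L, hL, fun σ hσ => (hs hσ : z.1 σ = z.1 1).trans (GalTw.oneCocycle_one z.1)⟩

theorem Mk.lc {a : AlgGrp.Action G P} {z : GpH1.OneCocycleLC (B ≃ₐ[k] B) (SGA7.Pts B G)} {b : SGA7.Pts B P}
    (h : Mk a z.1 b) : Lc b := by
  obtain ⟨L, hL, hz⟩ := exists_fixing_one z
  refine ⟨L, hL, fun σ hσ => ?_⟩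
  have := h σ
  rwa [hz σ hσ, sm_one] at this

theorem exists_cocycle {a : AlgGrp.Action G P} (ht : IsTrs a) {b : SGA7.Pts B P} (hb : Lc b) :
    ∃ z : GpH1.OneCocycleLC (B ≃ₐ[k] B) (SGA7.Pts B G), Mk a z.1 b := by
  have hex : ∀ σ : B ≃ₐ[k] B, ∃ d : SGA7.Pts B G, sm a d (σ • b) = b := fun σ => (ht _ b (σ • b)).exists
  choose d hd using hex
  have hc : ∀ σ τ, d (σ * τ) = d σ * σ • d τ := fun σ τ => by
    refine ht.eq (y := (σ * τ) • b) ?_
    rw [hd, ← sm_sm, mul_smul, ← smul_sm, hd, hd]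
  refine ⟨⟨⟨d, hc⟩, (IsLocallyConstant.iff_exists_open _).2 fun σ => ?_⟩, hd⟩
  obtain ⟨L, hL, hfix⟩ := hb
  refine ⟨(fun τ => σ⁻¹ * τ) ⁻¹' (L.fixingSubgroup : Set (B ≃ₐ[k] B)),
    (IntermediateField.fixingSubgroup_isOpen L).preimage (continuous_const.mul continuous_id), ?_, ?_⟩
  · simpa using one_mem L.fixingSubgroup
  · intro τ hτ
    show d τ = d σ
    have h1 : d (σ⁻¹ * τ) = 1 := ht.eq (y := (σ⁻¹ * τ) • b) (by rw [hd, sm_one, hfix _ hτ])
    rw [← mul_inv_cancel_left σ τ, hc, h1, smul_one, _root_.mul_one]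

omit [Finite k] [IsGalois k B] in
theorem exists_point [IsAlgClosed B] (A : StkCnt.pts (AlgSt.QuotSt Scheme.etalePrecoverage G aX) k) :
    ∃ b : SGA7.Pts B A.1.P, Lc b := by
  obtain ⟨⟨T, P, act, π, cart, loc, φ, eqv⟩, hA⟩ := A
  cases hA
  obtain ⟨R, hR, hsec⟩ := loc
  obtain ⟨S', f, hf, y, hy⟩ : ∃ (S' : Scheme.{u}) (f : S' ⟶ Spec (CommRingCat.of k)), R f ∧
      ∃ y : S', f.base y = IsLocalRing.closedPoint k := by
    obtain ⟨Y, g, ⟨hg⟩, hy⟩ := hR.1 (IsLocalRing.closedPoint k)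
    exact ⟨_, _, hg, hy⟩
  haveI : Etale f := hR.2 hf
  obtain ⟨U, hU, hyU, -⟩ := exists_isAffineOpen_mem_and_subset (x := y) (U := ⊤) trivial
  obtain ⟨r, hr⟩ := Spec.map_surjective (hU.fromSpec ≫ f)
  letI : Algebra k Γ(S', U) := r.hom.toAlgebra
  haveI : Algebra.FiniteType k Γ(S', U) := by
    refine (HasRingHomProperty.Spec_iff (P := @LocallyOfFiniteType) (φ := r)).1 ?_
    rw [hr]
    infer_instance
  obtain ⟨w, -⟩ : y ∈ Set.range hU.fromSpec.base := by rw [hU.range_fromSpec]; exact hyU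
  haveI : Nontrivial Γ(S', U) := PrimeSpectrum.nonempty_iff_nontrivial.1 ⟨w⟩
  obtain ⟨m, hm⟩ := Ideal.exists_maximal Γ(S', U)
  letI := Ideal.Quotient.field m
  haveI : Algebra.FiniteType k (Γ(S', U) ⧸ m) :=
    .of_surjective (Ideal.Quotient.mkₐ k m) (Ideal.Quotient.mkₐ_surjective k m)
  haveI : Module.Finite k (Γ(S', U) ⧸ m) := finite_of_finite_type_of_isJacobsonRing _ _
  let ψ : Γ(S', U) ⧸ m →ₐ[k] B := IsAlgClosed.lift
  obtain ⟨s, hs⟩ := hsec f hf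
  let q : Γ(S', U) →ₐ[k] B := ψ.comp (Ideal.Quotient.mkₐ k m)
  refine ⟨Over.homMk (Spec.map (CommRingCat.ofHom q.toRingHom) ≫ hU.fromSpec ≫ s) ?_, ψ.fieldRange,
    inferInstanceAs (FiniteDimensional k (LinearMap.range ψ.toLinearMap)), fun σ hσ => ?_⟩
  · have hi : Spec.map (CommRingCat.ofHom (algebraMap k k)) = 𝟙 (Spec (CommRingCat.of k)) := Spec.map_id _
    have hw : s ≫ P.hom = f := by
      rw [← Over.w π]
      refine (congrArg (s ≫ ·) ?_).trans hs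
      show π.left ≫ Spec.map (CommRingCat.ofHom (algebraMap k k)) = π.left
      exact (congrArg (π.left ≫ ·) hi).trans (Category.comp_id _)
    simp only [Category.assoc, hw, ← hr, ← Spec.map_comp]
    show Spec.map _ = Spec.map (CommRingCat.ofHom (algebraMap k B))
    congr 1
    ext c
    exact q.commutes c
  · apply Over.OverMorphism.ext
    show Spec.map (CommRingCat.ofHom (σ : B →+* B)) ≫ Spec.map _ ≫ hU.fromSpec ≫ s = Spec.map _ ≫ hU.fromSpec ≫ s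
    rw [← Spec.map_comp_assoc]
    congr 2
    ext c
    exact (IntermediateField.mem_fixingSubgroup_iff _ σ).1 hσ _ ⟨Ideal.Quotient.mkₐ k m c, rfl⟩

/-- Morphisms between marked objects. -/
theorem exists_hom {A A' : StkCnt.pts (AlgSt.QuotSt Scheme.etalePrecoverage G aX) k}
    {z z' : GpH1.OneCocycleLC (B ≃ₐ[k] B) (SGA7.Pts B G)}
    {b : SGA7.Pts B A.1.P} {b' : SGA7.Pts B A'.1.P} (hb : Mk A.1.act z.1 b) (hb' : Mk A'.1.act z'.1 b') :
    ∃ _ : (A ⟶ A') ≃ {g : SGA7.Pts B G // (∀ σ, z.1 σ * σ • g = g * z'.1 σ) ∧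
        sm aX g (b' ≫ A'.1.φ) = b ≫ A.1.φ}, True := by
  have ht := isTrs_obj A
  have ht' := isTrs_obj A'
  have aux : ∀ {A A' : StkCnt.pts (AlgSt.QuotSt Scheme.etalePrecoverage G aX) k}
      {z z' : GpH1.OneCocycleLC (B ≃ₐ[k] B) (SGA7.Pts B G)}
      {b : SGA7.Pts B A.1.P} {b' : SGA7.Pts B A'.1.P}, Mk A.1.act z.1 b → Mk A'.1.act z'.1 b' →
      ∀ g : SGA7.Pts B G, (∀ σ, z.1 σ * σ • g = g * z'.1 σ) →
      ∃ f : A.1.P ⟶ A'.1.P, b ≫ f = sm A'.1.act g b' ∧ A.1.act.act ≫ f = (G ◁ f) ≫ A'.1.act.act := by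
    intro A A' z z' b b' hb hb' g hg
    have hβ : Mk A'.1.act z.1 (sm A'.1.act g b') := mk_move _ hb' hg
    refine exists_equivariant_closure A.1.act (isTrs_obj A) A'.1.act b _ hb.lc hβ.lc fun σ d hd => ?_
    have e : z.1 σ * d = 1 := (isTrs_obj A).eq (y := b) (by rw [← sm_sm, hd, hb σ, sm_one])
    conv_lhs => rw [← hβ σ]
    rw [sm_sm, show d * z.1 σ = 1 from mul_eq_one_comm.1 e, sm_one]
  have cond : ∀ h : A ⟶ A', ∃ g : {g : SGA7.Pts B G // (∀ σ, z.1 σ * σ • g = g * z'.1 σ) ∧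
      sm aX g (b' ≫ A'.1.φ) = b ≫ A.1.φ}, b ≫ h.1.top = sm A'.1.act g.1 b' := by
    intro h
    obtain ⟨g, hg, -⟩ := ht' _ (b ≫ h.1.top) b'
    refine ⟨⟨g, fun σ => ht'.eq (y := σ • b') ?_, ?_⟩, hg.symm⟩
    · rw [← sm_sm, ← smul_sm, hg, ← smul_comp, ← sm_comp _ _ _ h.1.eqv, hb σ, ← hg, ← sm_sm, hb' σ]
    · rw [← sm_comp _ _ _ A'.1.eqv, hg, Category.assoc, h.1.wφ]
  choose fwd hfwd using cond
  refine ⟨Equiv.ofBijective fwd ⟨?_, ?_⟩, trivial⟩
  · intro h₁ h₂ e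
    refine CategoryTheory.Functor.Fiber.hom_ext (AlgSt.QuotObj.hom_ext (hom_base_ext A' _ _) ?_)
    have e' : (fwd h₁).1 = (fwd h₂).1 := congrArg Subtype.val e
    have e1 := hfwd h₁
    rw [e'] at e1
    have e2 : b ≫ h₁.1.top = b ≫ h₂.1.top := e1.trans (hfwd h₂).symm
    exact equivariant_ext_closure A.1.act ht A'.1.act b hb.lc h₁.1.eqv h₂.1.eqv e2
  · rintro ⟨g, hg, hgx⟩
    obtain ⟨f, hf, hfe⟩ := aux hb hb' g hg
    have hg' : ∀ σ, z'.1 σ * σ • g⁻¹ = g⁻¹ * z.1 σ := fun σ => by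
      rw [eq_inv_mul_iff_mul_eq, ← _root_.mul_assoc, ← hg σ, smul_inv', _root_.mul_assoc, mul_inv_cancel,
        _root_.mul_one]
    obtain ⟨f', hf', hfe'⟩ := aux hb' hb g⁻¹ hg'
    have eid : ∀ (Y : Over (Spec (CommRingCat.of k))) (a : AlgGrp.Action G Y), a.act ≫ 𝟙 Y = (G ◁ 𝟙 Y) ≫ a.act :=
      fun Y a => by simp
    have i1 : f ≫ f' = 𝟙 _ := equivariant_ext_closure _ ht _ b hb.lc
      (by rw [reassoc_of% hfe, hfe', MonoidalCategory.whiskerLeft_comp_assoc]) (eid _ _)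
      (by rw [reassoc_of% hf, sm_comp _ _ _ hfe', hf', sm_sm, mul_inv_cancel, sm_one, Category.comp_id])
    have i2 : f' ≫ f = 𝟙 _ := equivariant_ext_closure _ ht' _ b' hb'.lc
      (by rw [reassoc_of% hfe', hfe, MonoidalCategory.whiskerLeft_comp_assoc]) (eid _ _)
      (by rw [reassoc_of% hf', sm_comp _ _ _ hfe, hf, sm_sm, inv_mul_cancel, sm_one, Category.comp_id])
    haveI : IsIso f := ⟨⟨f', i1, i2⟩⟩
    haveI : IsIso (eqToHom (A.2.trans A'.2.symm) : A.1.base ⟶ A'.1.base) := inferInstance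
    let h : A.1 ⟶ A'.1 := ⟨eqToHom (A.2.trans A'.2.symm), f, hfe,
      IsPullback.of_horiz_isIso ⟨hom_base_ext A' _ _⟩, by
        refine equivariant_ext_closure _ ht aX b hb.lc ?_ A.1.eqv ?_
        · rw [reassoc_of% hfe, A'.1.eqv, MonoidalCategory.whiskerLeft_comp_assoc]
        · rw [reassoc_of% hf, sm_comp _ _ _ A'.1.eqv, hgx]⟩
    refine ⟨⟨h, IsHomLift.of_fac' _ _ _ A.2 A'.2 (by
      simp only [Category.id_comp, eqToHom_trans]
      rfl)⟩, Subtype.ext (ht'.eq (y := b') ?_)⟩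
    rw [← hfwd]
    exact hf

end Groth.Agent.StkTwLib
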