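import Groth.Agent.StkTwLib.Restrict
import Groth.Agent.StkTwLib.Marks

/-! Fibres over the spectrum of an extension field. -/

set_option autoImplicit false
set_option linter.style.haveILetI false
set_option backward.isDefEq.respectTransparency false
set_option backward.isDefEq.respectTransparency.types false

universe u

open CategoryTheory CategoryTheory.Limits AlgebraicGeometry

namespace Groth.Agent.StkTwLib

variable {k : Type u} [Field k]

theorem pt_eq_map (k' : Type u) [Field k'] [Algebra k k'] :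
    SGA7.pt (K := k) k' = (Over.map (Spec.map (CommRingCat.ofHom (algebraMap k k')))).obj (SGA7.pt (K := k') k') := by
  have h : Spec.map (CommRingCat.ofHom (algebraMap k' k')) = 𝟙 (Spec (CommRingCat.of k')) := Spec.map_id _
  show Over.mk _ = Over.mk (Spec.map (CommRingCat.ofHom (algebraMap k' k')) ≫ _)
  rw [h]
  exact congrArg Over.mk (Category.id_comp _).symm

theorem count_fiber_congr (𝒳 : AlgSt.Cat (Spec (CommRingCat.of k))) {T T' : Over (Spec (CommRingCat.of k))}
    (e : T = T') (h : StkCnt.IsEssFinite (𝒳.p.Fiber T)) :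
    ∃ h' : StkCnt.IsEssFinite (𝒳.p.Fiber T'), StkCnt.count _ h = StkCnt.count _ h' := by
  subst e
  exact ⟨h, rfl⟩

end Groth.Agent.StkTwLib

namespace Groth.Agent.StkTwLib

theorem exists_hom_of_point {S : Scheme.{u}} {K : Precoverage Scheme.{u}} [K.HasIsos] {G X : Over S} [GrpObj G]
    {aX : AlgGrp.Action G X} {T : Over S} (a : (AlgSt.QuotSt K G aX).p.Fiber T) (t : T ⟶ a.1.P)
    (ht : t ≫ a.1.π = eqToHom a.2.symm) (B : AlgSt.QuotObj K G aX) (b : T ⟶ B.P)
    (hb : b ≫ B.φ = t ≫ a.1.φ) : ∃ h : a.1 ⟶ B, h.base = eqToHom a.2 ≫ b ≫ B.π := by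
  obtain ⟨i⟩ := StkMassLib.iso_triv_of_point a t ht
  refine ⟨i.inv.1 ≫ QuotLib.trivHom B b _ hb, ?_⟩
  show i.inv.1.base ≫ b ≫ B.π = _
  rw [StkMassLib.base_eq_id i.inv]

end Groth.Agent.StkTwLib

namespace Groth.Agent.StkTwLib

theorem point_base_left {k : Type u} [Field k] {k' : Type u} [Field k'] [Algebra k k'] {B : Type u} [Field B]
    [Algebra k' B] {G X : Over (Spec (CommRingCat.of k))} [GrpObj G] (aX : AlgGrp.Action G X)
    (A : (AlgSt.QuotSt Scheme.etalePrecoverage (Red.bc (Spec.map (CommRingCat.ofHom (algebraMap k k'))) G)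
      (bcAct (f := Spec.map (CommRingCat.ofHom (algebraMap k k'))) aX)).p.Fiber (SGA7.pt (K := k') k'))
    (b : SGA7.pt (K := k') B ⟶ A.1.P)
    {T₂ : Over (Spec (CommRingCat.of k))} (e : SGA7.pt (K := k) k' = T₂)
    (hB : (pushObj (Spec.map (CommRingCat.ofHom (algebraMap k k'))) Scheme.etalePrecoverage aX A.1).base = T₂) :
    (((Over.map (Spec.map (CommRingCat.ofHom (algebraMap k k')))).map b ≫
      (pushObj (Spec.map (CommRingCat.ofHom (algebraMap k k'))) Scheme.etalePrecoverage aX A.1).π) ≫ eqToHom hB).left =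
      Spec.map (CommRingCat.ofHom (algebraMap k' B)) ≫ eqToHom (congrArg (fun T => T.left) e) := by
  subst e
  obtain ⟨⟨base, P, act, π, cart, loc, φ, eqv⟩, hA⟩ := A
  cases hA
  have hid : Spec.map (CommRingCat.ofHom (algebraMap k' k')) = 𝟙 (Spec (CommRingCat.of k')) := Spec.map_id _
  have e := Over.w (b ≫ π)
  change (b.left ≫ π.left) ≫ Spec.map (CommRingCat.ofHom (algebraMap k' k')) =
    Spec.map (CommRingCat.ofHom (algebraMap k' B)) at e
  have e' := ((congrArg ((b.left ≫ π.left) ≫ ·) hid).trans (Category.comp_id _)).symm.trans e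
  rw [Over.comp_left, Over.comp_left, Over.eqToHom_left]
  show (b.left ≫ π.left) ≫ 𝟙 _ = _ ≫ 𝟙 _
  exact congrArg (· ≫ 𝟙 _) e' 

end Groth.Agent.StkTwLib
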