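import Groth.Prelude.Def_StkCnt
import Mathlib.GroupTheory.GroupAction.Quotient
import Mathlib.Algebra.BigOperators.Field
import Mathlib.Tactic.FieldSimp

/-! The count of a groupoid presented by finitely many actions. -/

set_option autoImplicit false

universe w v v₁ v₂ v₃

open CategoryTheory

namespace Groth.Agent.StkTwLib

theorem count_actions {C : Type w} [Category.{v} C] (h : StkCnt.IsEssFinite C) {H : Type v₁} [Fintype H]
    {Γ : H → Type v₂} [∀ c, Group (Γ c)] [∀ c, Finite (Γ c)] {M : H → Type v₃} [∀ c, MulAction (Γ c) (M c)]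
    [∀ c, Finite (M c)] (obj : ∀ c, M c → C)
    (hsurj : ∀ A, ∃ c x, Nonempty (obj c x ≅ A))
    (hiso : ∀ c c' (x : M c) (x' : M c'), Nonempty (obj c x ≅ obj c' x') → c = c')
    (hom : ∀ c (x x' : M c), Nonempty ((obj c x ≅ obj c x') ≃ {g : Γ c // g • x' = x})) :
    StkCnt.count C h = ∑ c, (Nat.card (M c) : ℚ) / (Nat.card (Γ c) : ℚ) := by
  classical
  have horb : ∀ c (x x' : M c), Nonempty (obj c x ≅ obj c x') ↔ x ∈ MulAction.orbit (Γ c) x' := fun c x x' =>
    ⟨fun ⟨i⟩ => let ⟨e⟩ := hom c x x'; ⟨(e i).1, (e i).2⟩,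
     fun ⟨g, hg⟩ => let ⟨e⟩ := hom c x x'; ⟨e.symm ⟨g, hg⟩⟩⟩
  let q : (Σ c, MulAction.orbitRel.Quotient (Γ c) (M c)) → StkCnt.IsoCl C := fun p =>
    Quotient.lift (fun x => StkCnt.IsoCl.mk (obj p.1 x))
      (fun x y hxy => Quotient.sound ((horb _ x y).2 (MulAction.orbitRel_apply.1 hxy))) p.2
  have hq : Function.Bijective q := by
    refine ⟨?_, fun A => Quotient.inductionOn A fun A => ?_⟩
    · rintro ⟨c, o⟩ ⟨c', o'⟩
      induction o using Quotient.inductionOn with | _ x =>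
      induction o' using Quotient.inductionOn with | _ x' =>
      intro e
      obtain rfl := hiso c c' x x' (Quotient.exact e)
      exact Sigma.ext rfl (heq_of_eq (Quotient.sound (MulAction.orbitRel_apply.2 ((horb c x x').1 (Quotient.exact e)))))
    · obtain ⟨c, x, hi⟩ := hsurj A
      exact ⟨⟨c, ⟦x⟧⟩, Quotient.sound hi⟩
  letI : ∀ c, Fintype (MulAction.orbitRel.Quotient (Γ c) (M c)) := fun c => Fintype.ofFinite _
  letI : Fintype (StkCnt.IsoCl C) := Fintype.ofEquiv _ (Equiv.ofBijective q hq)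
  rw [StkCnt.count_eq_sum h, ← (Equiv.ofBijective q hq).sum_comp, Fintype.sum_sigma]
  refine Finset.sum_congr rfl fun c _ => ?_
  have key : ∀ o : MulAction.orbitRel.Quotient (Γ c) (M c),
      ((StkCnt.autCard C (q ⟨c, o⟩) : ℕ) : ℚ)⁻¹ =
        (Nat.card (MulAction.orbit (Γ c) o.out) : ℚ) / (Nat.card (Γ c) : ℚ) := by
    intro o
    have ho : q ⟨c, o⟩ = StkCnt.IsoCl.mk (obj c o.out) := by
      conv_lhs => rw [← o.out_eq]
      rfl
    obtain ⟨e⟩ := hom c o.out o.out
    have e' : Aut (obj c o.out) ≃ MulAction.stabilizer (Γ c) o.out :=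
      (show Aut (obj c o.out) ≃ (obj c o.out ≅ obj c o.out) from Equiv.refl _).trans e
    rw [ho, StkCnt.autCard_mk, Nat.card_congr e']
    have h' := Nat.card_congr (MulAction.orbitProdStabilizerEquivGroup (Γ c) o.out)
    rw [Nat.card_prod] at h'
    rw [← h', Nat.cast_mul]
    have : (Nat.card (MulAction.orbit (Γ c) o.out) : ℚ) ≠ 0 := by
      have : Nonempty (MulAction.orbit (Γ c) o.out) := ⟨⟨_, MulAction.mem_orbit_self _⟩⟩
      exact Nat.cast_ne_zero.2 Nat.card_pos.ne'
    field_simp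
  refine (Finset.sum_congr rfl fun o _ => key o).trans ?_
  rw [← Finset.sum_div, ← Nat.cast_sum, ← Nat.card_sigma]
  congr 2
  exact (Nat.card_congr (MulAction.selfEquivSigmaOrbits (Γ c) (M c))).symm

end Groth.Agent.StkTwLib
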