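import Groth.Agent.StkTwLib.Frob
import Groth.Agent.StkTwLib.Count
import Mathlib.FieldTheory.Minpoly.Field

/-! The count of the rational points of a quotient stack by a group with finitely many points. -/

set_option autoImplicit false
set_option linter.style.haveILetI false
set_option backward.isDefEq.respectTransparency false
set_option backward.isDefEq.respectTransparency.types false

universe u

open CategoryTheory CategoryTheory.Limits AlgebraicGeometry MonoidalCategory CartesianMonoidalCategory MonObj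

namespace Groth.Agent.StkTwLib

variable {k : Type u} [Field k] [Finite k] {B : Type u} [Field B] [Algebra k B] [IsGalois k B]

/-- A property closed under products that holds at Frobenius and near the identity holds everywhere. -/
theorem frob_induction {p : (B ≃ₐ[k] B) → Prop} (h1 : p 1) (hm : ∀ σ τ, p σ → p τ → p (σ * τ))
    (hF : p (frob (k := k) B)) (L : IntermediateField k B) [FiniteDimensional k L] (hL : ∀ σ ∈ L.fixingSubgroup, p σ)
    (σ : B ≃ₐ[k] B) : p σ := by
  haveI : Finite L := Module.finite_of_finite k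
  haveI : IsGalois k L := inferInstance
  obtain ⟨i, hi⟩ := exists_pow_frob (AlgEquiv.restrictNormalHom L σ)
  have hmem : (frob (k := k) B ^ i)⁻¹ * σ ∈ L.fixingSubgroup := by
    rw [IntermediateField.mem_fixingSubgroup_iff]
    intro c hc
    have e : AlgEquiv.restrictNormalHom L ((frob (k := k) B ^ i)⁻¹ * σ) = 1 := by
      rw [map_mul, map_inv, map_pow, restrict_frob, hi, inv_mul_cancel]
    have e' : ((AlgEquiv.restrictNormalHom L ((frob (k := k) B ^ i)⁻¹ * σ) ⟨c, hc⟩ : L) : B) = c := by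
      rw [e]; rfl
    exact (AlgEquiv.restrictNormal_commutes _ L ⟨c, hc⟩).symm.trans e'
  have hpow : ∀ j : ℕ, p (frob (k := k) B ^ j) := fun j => by
    induction j with
    | zero => rwa [pow_zero]
    | succ j ih => rw [pow_succ]; exact hm _ _ ih hF
  rw [← mul_inv_cancel_left (frob (k := k) B ^ i) σ]
  exact hm _ _ (hpow i) (hL _ hmem)

variable {G X P : Over (Spec (CommRingCat.of k))} [GrpObj G]

theorem mk_of_frob [LocallyOfFiniteType X.hom] {aX : AlgGrp.Action G X}
    (z : GpH1.OneCocycleLC (B ≃ₐ[k] B) (SGA7.Pts B G)) (x : SGA7.Pts B X)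
    (h : sm aX (z.1 (frob (k := k) B)) (frob (k := k) B • x) = x) : Mk aX z.1 x := by
  obtain ⟨L₁, h₁, hz⟩ := exists_fixing_one z
  obtain ⟨L₂, h₂, hx⟩ := lc_of_lft x
  haveI : FiniteDimensional k ↥(L₁ ⊔ L₂) := IntermediateField.finiteDimensional_sup L₁ L₂
  refine frob_induction (p := fun σ => sm aX (z.1 σ) (σ • x) = x) (by rw [GalTw.oneCocycle_one, one_smul, sm_one])
    (fun σ τ hσ hτ => by rw [z.1.2, ← sm_sm, mul_smul, ← smul_sm, hτ, hσ]) h (L₁ ⊔ L₂) fun σ hσ => ?_
  rw [hz σ (IntermediateField.fixingSubgroup_antitone le_sup_left hσ), sm_one,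
    hx σ (IntermediateField.fixingSubgroup_antitone le_sup_right hσ)]

theorem comm_of_frob [LocallyOfFiniteType G.hom] (z z' : GpH1.OneCocycleLC (B ≃ₐ[k] B) (SGA7.Pts B G))
    (g : SGA7.Pts B G) (h : z.1 (frob (k := k) B) * frob (k := k) B • g = g * z'.1 (frob (k := k) B)) : ∀ σ, z.1 σ * σ • g = g * z'.1 σ := by
  obtain ⟨L₁, h₁, hz⟩ := exists_fixing_one z
  obtain ⟨L₂, h₂, hz'⟩ := exists_fixing_one z'
  obtain ⟨L₃, h₃, hg⟩ := lc_of_lft g
  haveI : FiniteDimensional k ↥(L₁ ⊔ L₂) := IntermediateField.finiteDimensional_sup L₁ L₂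
  haveI : FiniteDimensional k ↥(L₁ ⊔ L₂ ⊔ L₃) := IntermediateField.finiteDimensional_sup (L₁ ⊔ L₂) L₃
  refine frob_induction (p := fun σ => z.1 σ * σ • g = g * z'.1 σ)
    (by rw [GalTw.oneCocycle_one, GalTw.oneCocycle_one, one_smul, _root_.one_mul, _root_.mul_one])
    (fun σ τ hσ hτ => by
      rw [z.1.2, z'.1.2, mul_smul, _root_.mul_assoc, ← smul_mul', hτ, smul_mul', ← _root_.mul_assoc, hσ, _root_.mul_assoc])
    h (L₁ ⊔ L₂ ⊔ L₃) fun σ hσ => ?_
  rw [hz σ (IntermediateField.fixingSubgroup_antitone (le_sup_left.trans le_sup_left) hσ),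
    hz' σ (IntermediateField.fixingSubgroup_antitone (le_sup_right.trans le_sup_left) hσ),
    hg σ (IntermediateField.fixingSubgroup_antitone le_sup_right hσ), _root_.one_mul, _root_.mul_one]

theorem finite_pts_of_finite [IsFinite G.hom] : Finite (SGA7.Pts B G) := by
  classical
  haveI : IsAffine G.left := isAffine_of_isAffineHom G.hom
  obtain ⟨r, hr⟩ := Spec.map_surjective (G.left.isoSpec.inv ≫ G.hom)
  letI : Algebra k Γ(G.left, ⊤) := r.hom.toAlgebra
  haveI hfin : Module.Finite k Γ(G.left, ⊤) := by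
    have h : r.hom.Finite := by
      rw [← IsFinite.SpecMap_iff, hr]
      infer_instance
    exact h
  obtain ⟨T, hT⟩ := (inferInstance : Algebra.FiniteType k Γ(G.left, ⊤)).out
  let R : T → Set B := fun t => {b | Polynomial.aeval b (minpoly k (t : Γ(G.left, ⊤))) = 0}
  haveI : ∀ t, Finite (R t) := fun t => by
    have hne : minpoly k (t : Γ(G.left, ⊤)) ≠ 0 := minpoly.ne_zero (Algebra.IsIntegral.isIntegral _)
    refine Set.Finite.to_subtype ?_
    exact (((minpoly k (t : Γ(G.left, ⊤))).aroots B).toFinset.finite_toSet).subset fun b hb =>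
      Multiset.mem_toFinset.2 (Polynomial.mem_aroots.2 ⟨hne, hb⟩)
  let ev : (Γ(G.left, ⊤) →ₐ[k] B) → ((t : T) → R t) := fun φ t =>
    ⟨φ t, by show Polynomial.aeval (φ t.1) _ = 0; rw [Polynomial.aeval_algHom_apply, minpoly.aeval, map_zero]⟩
  haveI : Finite (Γ(G.left, ⊤) →ₐ[k] B) := Finite.of_injective ev fun φ ψ h =>
    AlgHom.ext_of_adjoin_eq_top hT fun t ht => congrArg Subtype.val (congrFun h ⟨t, ht⟩)
  let g : (Γ(G.left, ⊤) →ₐ[k] B) → SGA7.Pts B G := fun φ =>
    Over.homMk (Spec.map (CommRingCat.ofHom φ.toRingHom) ≫ G.left.isoSpec.inv) (by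
      rw [Category.assoc, ← hr, ← Spec.map_comp]
      show _ = Spec.map (CommRingCat.ofHom (algebraMap k B))
      congr 1
      ext c
      exact φ.commutes c)
  refine Finite.of_surjective g fun p => ?_
  obtain ⟨φ, hφ⟩ := Spec.map_surjective (p.left ≫ G.left.isoSpec.hom)
  have h1 : r ≫ φ = CommRingCat.ofHom (algebraMap k B) := by
    apply Spec.map_injective
    rw [Spec.map_comp, hφ, hr, Category.assoc, Iso.hom_inv_id_assoc]
    exact Over.w p
  refine ⟨{ φ.hom with commutes' := fun c => congrArg (fun q => q.hom c) h1 }, Over.OverMorphism.ext ?_⟩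
  show Spec.map φ ≫ _ = p.left
  rw [hφ, Category.assoc, Iso.hom_inv_id, Category.comp_id]

variable [IsAlgClosed B]

theorem count_total [IsAffine G.left] [LocallyOfFiniteType G.hom] [QuasiCompact G.hom] [LocallyOfFiniteType X.hom]
    (aX : AlgGrp.Action G X) [Finite (SGA7.Pts B G)]
    [Finite {p : SGA7.Pts B G × SGA7.Pts B X // sm aX p.1 (frob (k := k) B • p.2) = p.2}]
    (h : StkCnt.IsEssFinite (StkCnt.pts (AlgSt.QuotSt Scheme.etalePrecoverage G aX) k)) :
    StkCnt.count _ h = (Nat.card {p : SGA7.Pts B G × SGA7.Pts B X // sm aX p.1 (frob (k := k) B • p.2) = p.2} : ℚ) /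
      (Nat.card (SGA7.Pts B G) : ℚ) := by
  let W := {p : SGA7.Pts B G × SGA7.Pts B X // sm aX p.1 (frob (k := k) B • p.2) = p.2}
  letI : MulAction (SGA7.Pts B G) W :=
    { smul := fun g w => ⟨(g * w.1.1 * (frob (k := k) B • g)⁻¹, sm aX g w.1.2), by
        show sm aX _ (frob (k := k) B • sm aX g w.1.2) = _
        rw [smul_sm, sm_sm, inv_mul_cancel_right, ← sm_sm, w.2]⟩
      one_smul := fun w => Subtype.ext (Prod.ext (by
        show 1 * w.1.1 * (frob (k := k) B • (1 : SGA7.Pts B G))⁻¹ = w.1.1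
        rw [smul_one, inv_one, _root_.one_mul, _root_.mul_one]) (sm_one aX _))
      mul_smul := fun g g' w => Subtype.ext (Prod.ext (by
        show g * g' * w.1.1 * (frob (k := k) B • (g * g'))⁻¹ = g * (g' * w.1.1 * (frob (k := k) B • g')⁻¹) * (frob (k := k) B • g)⁻¹
        rw [smul_mul', mul_inv_rev]
        simp only [_root_.mul_assoc]) (sm_sm aX _ _ _).symm) }
  have hobj : ∀ w : W, ∃ (A : StkCnt.pts (AlgSt.QuotSt Scheme.etalePrecoverage G aX) k)
      (z : GpH1.OneCocycleLC (B ≃ₐ[k] B) (SGA7.Pts B G)) (b : SGA7.Pts B A.1.P),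
      z.1 (frob (k := k) B) = w.1.1 ∧ Mk A.1.act z.1 b ∧ b ≫ A.1.φ = w.1.2 := fun w => by
    obtain ⟨z, hz⟩ := exists_cocycle_frob w.1.1
    obtain ⟨A, b, hb, hbx⟩ := exists_obj z w.1.2 (mk_of_frob z _ (by rw [hz]; exact w.2))
    exact ⟨A, z, b, hz, hb, hbx⟩
  choose obj z b hz hb hbx using hobj
  rw [count_actions h (H := PUnit.{1}) (Γ := fun _ => SGA7.Pts B G) (M := fun _ => W) (fun _ w => obj w) ?_ ?_ ?_]
  · rw [Fintype.sum_unique]
  · intro A
    obtain ⟨p, hp⟩ := exists_point (B := B) A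
    obtain ⟨w, hw⟩ := exists_cocycle (isTrs_obj A) hp
    let x : W := ⟨(w.1 (frob (k := k) B), p ≫ A.1.φ), mk_comp A.1.act aX A.1.φ A.1.eqv hw (frob (k := k) B)⟩
    refine ⟨⟨⟩, x, ?_⟩
    obtain ⟨e, -⟩ := exists_hom (hb x) hw
    let h0 := e.symm ⟨1, comm_of_frob _ _ _ (by rw [hz x, smul_one, _root_.mul_one, _root_.one_mul]),
      by rw [sm_one]; exact (hbx x).symm⟩
    haveI := StkMassLib.isIso_hom h0
    exact ⟨asIso h0⟩
  · intro c c' _ _ _
    rfl
  · intro c x x'
    obtain ⟨e, -⟩ := exists_hom (hb x) (hb x')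
    refine ⟨(Equiv.ofBijective (fun i : obj x ≅ obj x' => i.hom)
      ⟨fun _ _ e => Iso.ext e, fun f => haveI := StkMassLib.isIso_hom f; ⟨asIso f, rfl⟩⟩).trans (e.trans
      { toFun := fun g => ⟨g.1, Subtype.ext (Prod.ext (by
          show g.1 * x'.1.1 * (frob (k := k) B • g.1)⁻¹ = x.1.1
          rw [mul_inv_eq_iff_eq_mul, ← hz x, ← hz x']
          exact (g.2.1 (frob (k := k) B)).symm) (by
          show sm aX g.1 x'.1.2 = x.1.2
          rw [← hbx x', ← hbx x]
          exact g.2.2))⟩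
        invFun := fun g => ⟨g.1, comm_of_frob _ _ _ (by
            rw [hz x, hz x', ← (show g.1 * x'.1.1 * (frob (k := k) B • g.1)⁻¹ = x.1.1 from congrArg (fun w => w.1.1) g.2),
              inv_mul_cancel_right]), by
          rw [hbx x', hbx x]
          exact congrArg (fun w => w.1.2) g.2⟩
        left_inv := fun _ => rfl
        right_inv := fun _ => rfl })⟩

end Groth.Agent.StkTwLib
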