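import Groth.Agent.StkTwLib.Desc
import Groth.Agent.GalTw9.Descend
import Groth.Agent.SGA1Q.Properties

/-! The torsor of a cocycle of a finite Galois extension. -/

set_option autoImplicit false
set_option linter.style.haveILetI false
set_option backward.isDefEq.respectTransparency false
set_option backward.isDefEq.respectTransparency.types false

universe u

open CategoryTheory CategoryTheory.Limits AlgebraicGeometry MonoidalCategory CartesianMonoidalCategory MonObj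

namespace Groth.Agent.StkTwLib

variable {k : Type u} [Field k] {L : Type u} [Field L] [Algebra k L] [FiniteDimensional k L] [IsGalois k L]
variable (G : Over (Spec (CommRingCat.of k))) [GrpObj G] [IsAffine G.left]
variable (w : GpH1.OneCocycle (L ≃ₐ[k] L) (SGA7.Pts L G))

/-- The twisted semilinear action on `G ⊗ L`. -/
noncomputable def twT (σ : L ≃ₐ[k] L) : G ⊗ SGA7.pt L ⟶ G ⊗ SGA7.pt L :=
  lift (fst _ _ * snd _ _ ≫ SGA7.specAut σ⁻¹ ≫ (w σ)⁻¹) (snd _ _ ≫ SGA7.specAut σ⁻¹)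

omit [FiniteDimensional k L] [IsGalois k L] [IsAffine G.left] in
theorem twT_one : twT G w 1 = 𝟙 _ := by
  rw [twT, inv_one, GalTw.specAut_one, Category.id_comp, GalTw.oneCocycle_one, inv_one, MonObj.comp_one,
    _root_.mul_one, Category.comp_id, lift_fst_snd]

omit [FiniteDimensional k L] [IsGalois k L] [IsAffine G.left] in
theorem twT_mul (σ τ : L ≃ₐ[k] L) : twT G w (σ * τ) = twT G w τ ≫ twT G w σ := by
  have h : SGA7.specAut (σ * τ)⁻¹ = SGA7.specAut τ⁻¹ ≫ SGA7.specAut (K := k) σ⁻¹ := by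
    rw [mul_inv_rev, GalTw.specAut_mul]
  have e : SGA7.specAut (σ * τ)⁻¹ ≫ (w (σ * τ))⁻¹ =
      SGA7.specAut τ⁻¹ ≫ (w τ)⁻¹ * SGA7.specAut τ⁻¹ ≫ SGA7.specAut σ⁻¹ ≫ (w σ)⁻¹ := by
    rw [w.2 σ τ, h, mul_inv_rev, MonObj.comp_mul, Category.assoc, Category.assoc]
    congr 1
    show SGA7.specAut τ⁻¹ ≫ (σ⁻¹ • (σ • w τ)⁻¹) = _
    rw [smul_inv', inv_smul_smul]
  apply CartesianMonoidalCategory.hom_ext
  · simp only [twT, lift_fst, Category.assoc, MonObj.comp_mul, lift_snd_assoc]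
    rw [e, MonObj.comp_mul, ← _root_.mul_assoc]
  · simp only [twT, lift_snd, Category.assoc, lift_snd_assoc, h]

theorem exists_quot_twT :
    ∃ (P : Over (Spec (CommRingCat.of k))) (q : G ⊗ SGA7.pt L ⟶ P),
      (∀ σ, twT G w σ ≫ q = q) ∧ IsIso (lift q (snd G (SGA7.pt L))) := by
  haveI : IsAffine (G ⊗ SGA7.pt (K := k) L).left := by
    haveI : IsAffineHom (pullback.fst G.hom (SGA7.pt (K := k) L).hom) :=
      MorphismProperty.pullback_fst _ _ (inferInstanceAs (IsAffineHom (Spec.map _)))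
    exact isAffine_of_isAffineHom (pullback.fst G.hom (SGA7.pt (K := k) L).hom)
  have hm : ∀ σ τ, (twT G w (σ * τ)).left = (twT G w τ).left ≫ (twT G w σ).left :=
    fun σ τ => congrArg (fun m => m.left) (twT_mul G w σ τ)
  have h1 : (twT G w 1).left = 𝟙 _ := congrArg (fun m => m.left) (twT_one G w)
  let ρ : (L ≃ₐ[k] L) →* Aut (G ⊗ SGA7.pt (K := k) L).left :=
    { toFun := fun σ => ⟨(twT G w σ).left, (twT G w σ⁻¹).left, by rw [← hm, inv_mul_cancel, h1],
        by rw [← hm, mul_inv_cancel, h1]⟩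
      map_one' := Iso.ext h1
      map_mul' := fun σ τ => Iso.ext (hm σ τ) }
  let s := pullback.snd G.hom (SGA7.pt (K := k) L).hom
  have hs : ∀ σ, (ρ σ).hom ≫ s = s ≫ Spec.map (CommRingCat.ofHom ((σ⁻¹ : L ≃ₐ[k] L) : L →+* L)) := fun σ =>
    congrArg (fun m => m.left) (show twT G w σ ≫ snd _ _ = snd _ _ ≫ SGA7.specAut σ⁻¹ from lift_snd _ _)
  obtain ⟨Y, p, hp⟩ := SGA1Q.exists_quotient ρ fun x => ⟨⊤, isAffineOpen_top _, fun g => trivial⟩
  obtain ⟨h, hh, -⟩ := SGA1Q.desc_existsUnique_isQuot hp (s ≫ (SGA7.pt (K := k) L).hom) (fun g => by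
    rw [reassoc_of% (hs g)]
    exact congrArg (s ≫ ·) (GalTw.specMap_comp_pt g⁻¹))
  have hI := GalTw9.isIso_lift k L ρ s hs p hp h hh
  let q : G ⊗ SGA7.pt (K := k) L ⟶ Over.mk h := Over.homMk p (by
    show p ≫ h = _
    rw [hh]
    exact pullback.condition.symm)
  refine ⟨Over.mk h, q, fun σ => Over.OverMorphism.ext (hp.inv σ), ?_⟩
  have e : (lift q (snd G (SGA7.pt (K := k) L))).left = pullback.lift p s hh := by
    apply pullback.hom_ext
    · refine Eq.trans ?_ (pullback.lift_fst _ _ _).symm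
      exact congrArg (fun m => m.left) (lift_fst q (snd G (SGA7.pt (K := k) L)))
    · refine Eq.trans ?_ (pullback.lift_snd _ _ _).symm
      exact congrArg (fun m => m.left) (lift_snd q (snd G (SGA7.pt (K := k) L)))
  haveI : IsIso ((Over.forget _).map (lift q (snd G (SGA7.pt (K := k) L)))) := by
    show IsIso (lift q (snd G (SGA7.pt (K := k) L))).left
    rw [e]
    exact hI
  exact isIso_of_reflects_iso (lift q (snd G (SGA7.pt (K := k) L))) (Over.forget _)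

omit [IsAffine G.left] in
theorem exists_torsor_of_quot {P : Over (Spec (CommRingCat.of k))} (q : G ⊗ SGA7.pt L ⟶ P)
    (hq : ∀ σ, twT G w σ ≫ q = q) [IsIso (lift q (snd G (SGA7.pt L)))]
    {X : Over (Spec (CommRingCat.of k))} (aX : AlgGrp.Action G X) (x : SGA7.Pts L X)
    (hx : ∀ σ, sm aX (w σ) (σ • x) = x) :
    ∃ (a : AlgGrp.Action G P) (φ : P ⟶ X) (b : SGA7.Pts L P), IsTrs a ∧
      a.act ≫ φ = (G ◁ φ) ≫ aX.act ∧ b ≫ φ = x ∧ ∀ σ, sm a (w σ) (σ • b) = b := by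
  let ψ : P ⊗ SGA7.pt L ⟶ G := inv (lift q (snd G (SGA7.pt L))) ≫ fst _ _
  have hqψ : ∀ {Z} (g : Z ⟶ G) (s : Z ⟶ SGA7.pt L), lift (lift g s ≫ q) s ≫ ψ = g := by
    intro Z g s
    rw [show lift (lift g s ≫ q) s = lift g s ≫ lift q (snd _ _) by rw [comp_lift, lift_snd],
      Category.assoc, IsIso.hom_inv_id_assoc, lift_fst]
  have hψq : ∀ {Z} (r : Z ⟶ P) (s : Z ⟶ SGA7.pt L), lift (lift r s ≫ ψ) s ≫ q = r := by
    intro Z r s
    obtain ⟨u, hu'⟩ : ∃ u, u = lift r s ≫ inv (lift q (snd G (SGA7.pt L))) := ⟨_, rfl⟩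
    have hu : u ≫ lift q (snd _ _) = lift r s := by
      simp only [hu', Category.assoc, IsIso.inv_hom_id, Category.comp_id]
    have h1 : u ≫ q = r := by rw [← lift_fst r s, ← hu, Category.assoc, lift_fst]
    have h2 : u ≫ snd _ _ = s := by rw [← lift_snd r s, ← hu, Category.assoc, lift_snd]
    have e : lift (lift r s ≫ ψ) s = u := by
      apply CartesianMonoidalCategory.hom_ext
      · simp [hu', ψ]
      · rw [lift_snd, h2]
    rw [e, h1]
  have hinv : ∀ {Z} (g : Z ⟶ G) (s : Z ⟶ SGA7.pt L) (σ : L ≃ₐ[k] L),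
      lift (g * s ≫ w σ) (s ≫ SGA7.specAut σ) ≫ q = lift g s ≫ q := by
    intro Z g s σ
    conv_rhs => rw [← hq σ⁻¹, twT, inv_inv, comp_lift_assoc, MonObj.comp_mul, lift_fst, lift_snd_assoc,
      lift_snd_assoc]
    congr 3
    congr 1
    show w σ = σ • (w σ⁻¹)⁻¹
    have := w.2 σ σ⁻¹
    rw [mul_inv_cancel, GalTw.oneCocycle_one] at this
    rw [smul_inv', eq_inv_iff_mul_eq_one, ← this]
  have hψ : ∀ {Z} (r : Z ⟶ P) (s : Z ⟶ SGA7.pt L) (σ : L ≃ₐ[k] L),
      lift r (s ≫ SGA7.specAut σ) ≫ ψ = (lift r s ≫ ψ) * s ≫ w σ := by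
    intro Z r s σ
    conv_lhs => rw [← hψq r s, ← hinv _ s σ]
    rw [hqψ]
  let Z₁ := (G ⊗ P) ⊗ SGA7.pt (K := k) L
  let γ : Z₁ ⟶ G := fst _ _ ≫ fst G P
  let π₂ : Z₁ ⟶ P := fst _ _ ≫ snd G P
  obtain ⟨act, hact, -⟩ := desc (lift (γ * lift π₂ (snd _ _) ≫ ψ) (snd _ _) ≫ q) (fun σ => by
    have hγ : ((G ⊗ P) ◁ SGA7.specAut σ) ≫ γ = γ := whiskerLeft_fst_assoc _ _ _
    have hπ : ((G ⊗ P) ◁ SGA7.specAut σ) ≫ π₂ = π₂ := whiskerLeft_fst_assoc _ _ _
    rw [comp_lift_assoc, MonObj.comp_mul, comp_lift_assoc, hγ, hπ, whiskerLeft_snd, hψ, ← _root_.mul_assoc, hinv])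
  have hsm : ∀ {Z} (g : Z ⟶ G) (r : Z ⟶ P) (s : Z ⟶ SGA7.pt L),
      lift (lift g r ≫ act) s ≫ ψ = g * lift r s ≫ ψ := by
    intro Z g r s
    have e : lift g r ≫ act = lift (g * lift r s ≫ ψ) s ≫ q := by
      calc lift g r ≫ act = lift (lift g r) s ≫ fst _ _ ≫ act := by rw [lift_fst_assoc]
        _ = _ := by
          rw [hact, comp_lift_assoc, MonObj.comp_mul, comp_lift_assoc]
          simp only [γ, π₂, lift_fst_assoc, lift_fst, lift_snd]
    rw [e, hqψ]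
  have pext : ∀ {Z} (r r' : Z ⟶ P), lift (fst Z (SGA7.pt L) ≫ r) (snd _ _) ≫ ψ =
      lift (fst Z (SGA7.pt L) ≫ r') (snd _ _) ≫ ψ → r = r' := fun r r' h =>
    fst_cancel (L := L) (by rw [← hψq (fst _ _ ≫ r) (snd _ _), h, hψq])
  have h1 : ∀ {Z} (r : Z ⟶ P), lift (1 : Z ⟶ G) r ≫ act = r := fun r => pext _ _ (by
    rw [comp_lift_assoc, hsm, MonObj.comp_one, _root_.one_mul])
  have hm : ∀ {Z} (g h : Z ⟶ G) (r : Z ⟶ P), lift g (lift h r ≫ act) ≫ act = lift (g * h) r ≫ act :=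
    fun g h r => pext _ _ (by
      rw [comp_lift_assoc, hsm, comp_lift_assoc, hsm, comp_lift_assoc, hsm, MonObj.comp_mul, _root_.mul_assoc])
  let a : AlgGrp.Action G P :=
    { act := act
      one_act := by
        rw [show η[G] ▷ P = lift 1 (snd _ P) by
          apply CartesianMonoidalCategory.hom_ext <;> simp [Hom.one_def, toUnit_unique (fst (𝟙_ _) P) (toUnit _)],
          h1, leftUnitor_hom]
      mul_act := by
        rw [show (μ[G] ▷ P) = lift (fst _ _ ≫ fst G G * fst _ _ ≫ snd G G) (snd _ P) by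
            apply CartesianMonoidalCategory.hom_ext <;> simp [Hom.mul_def],
          ← hm, ← Category.assoc (α_ G G P).hom]
        congr 1
        apply CartesianMonoidalCategory.hom_ext
        · simp
        · rw [lift_snd, Category.assoc, whiskerLeft_snd, ← Category.assoc]
          congr 1
          apply CartesianMonoidalCategory.hom_ext <;> simp }
  have ht : IsTrs a := by
    intro Z r r'
    obtain ⟨d, hd, hu⟩ := desc (lift (fst Z (SGA7.pt L) ≫ r) (snd _ _) ≫ ψ *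
      (lift (fst Z (SGA7.pt L) ≫ r') (snd _ _) ≫ ψ)⁻¹) (fun σ => by
      rw [MonObj.comp_mul, GrpObj.comp_inv, comp_lift_assoc, comp_lift_assoc, whiskerLeft_fst_assoc,
        whiskerLeft_fst_assoc, whiskerLeft_snd, hψ, hψ, mul_inv_rev]
      group)
    have key : ∀ e : Z ⟶ G, sm a e r' = r ↔ fst Z (SGA7.pt L) ≫ e = lift (fst Z (SGA7.pt L) ≫ r) (snd _ _) ≫ ψ *
        (lift (fst Z (SGA7.pt L) ≫ r') (snd _ _) ≫ ψ)⁻¹ := by
      intro e
      rw [eq_mul_inv_iff_mul_eq, ← hsm, ← comp_lift_assoc]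
      exact ⟨fun h => by rw [show lift e r' ≫ act = r from h], fun h => pext _ _ h⟩
    exact ⟨d, (key d).2 hd, fun e he => hu e ((key e).1 he)⟩
  obtain ⟨φ, hφ, -⟩ := desc (sm aX ψ (snd _ _ ≫ x)) (fun σ => by
    have e : (P ◁ SGA7.specAut σ) ≫ ψ = ψ * snd _ _ ≫ w σ := by
      have := hψ (fst _ _) (snd P (SGA7.pt L)) σ
      rwa [lift_fst_snd, Category.id_comp,
        show lift (fst P (SGA7.pt L)) (snd _ _ ≫ SGA7.specAut σ) = P ◁ SGA7.specAut σ by
          apply CartesianMonoidalCategory.hom_ext <;> simp] at this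
    rw [comp_sm, e, whiskerLeft_snd_assoc, ← sm_sm]
    congr 1
    conv_rhs => rw [← hx σ, comp_sm]
    rfl)
  have hφs : ∀ {Z} (r : Z ⟶ P) (s : Z ⟶ SGA7.pt L), r ≫ φ = sm aX (lift r s ≫ ψ) (s ≫ x) := by
    intro Z r s
    calc r ≫ φ = lift r s ≫ fst _ _ ≫ φ := by rw [lift_fst_assoc]
      _ = _ := by rw [hφ, comp_sm, lift_snd_assoc]
  let b : SGA7.Pts L P := lift 1 (𝟙 _) ≫ q
  refine ⟨a, φ, b, ht, fst_cancel (L := L) ?_, ?_, fun σ => ?_⟩
  · rw [← Category.assoc, hφs _ (snd _ _), show fst (G ⊗ P) (SGA7.pt L) = lift γ π₂ by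
      apply CartesianMonoidalCategory.hom_ext <;> simp [γ, π₂, Z₁], hsm, lift_whiskerLeft_assoc,
      ← sm_sm, ← hφs]
    rfl
  · rw [hφs b (𝟙 _), hqψ, sm_one, Category.id_comp]
  · have hb : lift b (𝟙 _) ≫ ψ = 1 := hqψ _ _
    have h2 : lift (σ • b) (SGA7.specAut σ) ≫ ψ = 1 := by
      rw [show lift (σ • b) (SGA7.specAut σ) = SGA7.specAut σ ≫ lift b (𝟙 _) by
        rw [comp_lift, Category.comp_id]; rfl, Category.assoc, hb, MonObj.comp_one]
    have h3 := hψ (σ • b) (𝟙 _) σ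
    rw [Category.id_comp, h2, Category.id_comp] at h3
    rw [← hψq (sm a (w σ) (σ • b)) (𝟙 _), show sm a (w σ) (σ • b) = lift (w σ) (σ • b) ≫ act from rfl, hsm,
      eq_inv_of_mul_eq_one_left h3.symm, mul_inv_cancel]

end Groth.Agent.StkTwLib
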