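import Groth.Agent.StkTwLib.Marks
import Groth.Agent.StkTwLib.Quot
import Mathlib.FieldTheory.Normal.Basic
import Mathlib.RingTheory.Etale.Field
import Mathlib.AlgebraicGeometry.Sites.MorphismProperty

/-! Existence of marked objects. -/

set_option autoImplicit false
set_option linter.style.haveILetI false
set_option backward.isDefEq.respectTransparency false
set_option backward.isDefEq.respectTransparency.types false

universe u

open CategoryTheory CategoryTheory.Limits AlgebraicGeometry MonoidalCategory CartesianMonoidalCategory MonObj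

namespace Groth.Agent.StkTwLib

variable {k : Type u} [Field k] [Finite k] {B : Type u} [Field B] [Algebra k B] [IsGalois k B]
variable {G X : Over (Spec (CommRingCat.of k))} [GrpObj G] {aX : AlgGrp.Action G X}

theorem smul_res {L : IntermediateField k B} [Normal k L] (τ : B ≃ₐ[k] B) {Y : Over (Spec (CommRingCat.of k))}
    (y : SGA7.Pts L Y) : τ • (res L.val ≫ y) = res L.val ≫ (AlgEquiv.restrictNormalHom L τ • y) := by
  rw [GalTw.pts_smul_def, GalTw.pts_smul_def, ← Category.assoc, ← Category.assoc, specAut_eq_res, specAut_eq_res,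
    res_comp, res_comp]
  congr 2
  exact AlgHom.ext fun c => (AlgEquiv.restrictNormal_commutes τ L c).symm

/-- A cocycle and a point fixed by its twisted action come from a finite level. -/
theorem exists_finite_level (z : GpH1.OneCocycleLC (B ≃ₐ[k] B) (SGA7.Pts B G)) (x : SGA7.Pts B X)
    (hx : Mk aX z.1 x) :
    ∃ (L : IntermediateField k B) (_ : FiniteDimensional k L) (_ : IsGalois k L)
      (w : GpH1.OneCocycle (L ≃ₐ[k] L) (SGA7.Pts L G)) (y : SGA7.Pts L X),
      res L.val ≫ y = x ∧ (∀ τ, z.1 τ = res L.val ≫ w (AlgEquiv.restrictNormalHom L τ)) ∧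
        ∀ σ, sm aX (w σ) (σ • y) = y := by
  obtain ⟨L₁, h₁, hz⟩ := exists_fixing_one z
  obtain ⟨L₂, h₂, hxL⟩ := hx.lc
  haveI : FiniteDimensional k ↥(L₁ ⊔ L₂) := IntermediateField.finiteDimensional_sup L₁ L₂
  haveI : Finite ↥(L₁ ⊔ L₂) := Module.finite_of_finite k
  have hz' : ∀ σ ∈ (L₁ ⊔ L₂).fixingSubgroup, z.1 σ = 1 := fun σ hσ =>
    hz σ (IntermediateField.fixingSubgroup_antitone (le_sup_left (b := L₂)) hσ)
  have hx' : ∀ σ ∈ (L₁ ⊔ L₂).fixingSubgroup, σ • x = x := fun σ hσ =>
    hxL σ (IntermediateField.fixingSubgroup_antitone (le_sup_right (a := L₁)) hσ)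
  generalize hL : L₁ ⊔ L₂ = L at *
  haveI : IsGalois k L := inferInstance
  have hker : ∀ σ : B ≃ₐ[k] B, σ ∈ L.fixingSubgroup ↔ AlgEquiv.restrictNormalHom L σ = 1 := fun σ => by
    rw [IntermediateField.mem_fixingSubgroup_iff]
    constructor
    · intro h
      exact AlgEquiv.ext fun c => Subtype.ext ((AlgEquiv.restrictNormal_commutes σ L c).trans (h _ c.2))
    · intro h c hc
      have e := AlgEquiv.restrictNormal_commutes σ L ⟨c, hc⟩
      change (((AlgEquiv.restrictNormalHom L σ) ⟨c, hc⟩ : L) : B) = σ c at e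
      rw [h] at e
      exact e.symm
  have hzc : ∀ σ, ∀ τ ∈ L.fixingSubgroup, τ • z.1 σ = z.1 σ := by
    intro σ τ hτ
    have hτ' : σ⁻¹ * τ * σ ∈ L.fixingSubgroup := by
      rw [hker, map_mul, map_mul, (hker τ).1 hτ, _root_.mul_one, ← map_mul, inv_mul_cancel, map_one]
    have e1 := z.1.2 τ σ
    have e2 := z.1.2 σ (σ⁻¹ * τ * σ)
    rw [hz' _ hτ', smul_one, _root_.mul_one, show σ * (σ⁻¹ * τ * σ) = τ * σ by group] at e2
    rw [hz' _ hτ, _root_.one_mul] at e1
    exact e1.symm.trans e2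
  have hd : ∀ σ, ∃ d : SGA7.Pts L G, res L.val ≫ d = z.1 σ := fun σ =>
    exists_desc_of_fixed L.val (fixed_mem L) _ fun τ hτ =>
      hzc σ τ ((IntermediateField.mem_fixingSubgroup_iff L τ).2 fun a ha => hτ ⟨a, ha⟩)
  choose d hd using hd
  obtain ⟨y, hy⟩ := exists_desc_of_fixed L.val (fixed_mem L) x fun τ hτ =>
    hx' τ ((IntermediateField.mem_fixingSubgroup_iff L τ).2 fun a ha => hτ ⟨a, ha⟩)
  have hsur := AlgEquiv.restrictNormalHom_surjective (F := k) (K₁ := L) B
  have hwd : ∀ σ τ, AlgEquiv.restrictNormalHom L σ = AlgEquiv.restrictNormalHom L τ → z.1 σ = z.1 τ := by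
    intro σ τ h
    have hm : σ⁻¹ * τ ∈ L.fixingSubgroup := by rw [hker, map_mul, ← h, map_inv, inv_mul_cancel]
    have e := z.1.2 σ (σ⁻¹ * τ)
    rw [hz' _ hm, smul_one, _root_.mul_one, mul_inv_cancel_left] at e
    exact e.symm
  choose lf hlf using hsur
  let w₀ : (L ≃ₐ[k] L) → SGA7.Pts L G := fun σ => d (lf σ)
  have hw : ∀ τ, z.1 τ = res L.val ≫ w₀ (AlgEquiv.restrictNormalHom L τ) := fun τ => by
    rw [hd]
    exact hwd _ _ (hlf _).symm
  refine ⟨L, inferInstance, inferInstance, ⟨w₀, fun σ τ => res_cancel L.val ?_⟩, y, hy, hw, fun σ => res_cancel L.val ?_⟩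
  · show res L.val ≫ d (lf (σ * τ)) = res L.val ≫ (w₀ σ * σ • w₀ τ)
    rw [hd, hwd (lf (σ * τ)) (lf σ * lf τ) (by rw [map_mul, hlf, hlf, hlf]), z.1.2, MonObj.comp_mul]
    conv_lhs => rw [← hd (lf τ), smul_res, hlf, ← hd (lf σ)]
  · show res L.val ≫ sm aX (d (lf σ)) (σ • y) = res L.val ≫ y
    rw [comp_sm, hd, hy]
    conv_lhs => rw [← hlf σ, ← smul_res (B := B), hy]
    rw [hlf]
    exact hx (lf σ)

theorem exists_obj [IsAffine G.left] (z : GpH1.OneCocycleLC (B ≃ₐ[k] B) (SGA7.Pts B G)) (x : SGA7.Pts B X)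
    (hx : Mk aX z.1 x) :
    ∃ (A : StkCnt.pts (AlgSt.QuotSt Scheme.etalePrecoverage G aX) k) (b : SGA7.Pts B A.1.P),
      Mk A.1.act z.1 b ∧ b ≫ A.1.φ = x := by
  obtain ⟨L, hLf, hLg, w, y, hy, hw, hfix⟩ := exists_finite_level z x hx
  obtain ⟨P, q, hq, hi⟩ := exists_quot_twT G w
  obtain ⟨a, φ, b, ht, hφ, hbx, hb⟩ := exists_torsor_of_quot G w q hq aX y hfix
  have hid : Spec.map (CommRingCat.ofHom (algebraMap k k)) = 𝟙 (Spec (CommRingCat.of k)) := Spec.map_id _
  let π : P ⟶ SGA7.pt (K := k) k := Over.homMk P.hom (by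
    show P.hom ≫ Spec.map (CommRingCat.ofHom (algebraMap k k)) = P.hom
    rw [hid]
    exact Category.comp_id _)
  have cart : IsPullback a.act (snd G P) π π :=
    IsPullback.of_isLimit' ⟨hom_pt_ext _ _⟩ (PullbackCone.IsLimit.mk _
      (fun s => lift (ht s.pt s.fst s.snd).exists.choose s.snd)
      (fun s => (ht s.pt s.fst s.snd).exists.choose_spec)
      (fun s => lift_snd _ _)
      (fun s m h1 h2 => by
        have e : m = lift (m ≫ fst G P) s.snd := CartesianMonoidalCategory.hom_ext _ _ (by simp) (by simp [h2])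
        rw [e]
        congr 1
        refine ht.eq (y := s.snd) ((show sm a (m ≫ fst G P) s.snd = s.fst from ?_).trans
          (ht s.pt s.fst s.snd).exists.choose_spec.symm)
        show lift (m ≫ fst G P) s.snd ≫ a.act = s.fst
        rw [← e]
        exact h1))
  have loc : NonAbH1.IsLocallyTrivialFor Scheme.etalePrecoverage
      (Over.mk π.left : Over (SGA7.pt (K := k) k).left) := by
    have het : Etale (SGA7.pt (K := k) L).hom := by
      haveI : Algebra.IsSeparable k L := inferInstance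
      haveI : Algebra.FormallyEtale k L := Algebra.FormallyEtale.of_isSeparable k L
      haveI : Algebra.Etale k L := { finitePresentation := Algebra.FinitePresentation.of_finiteType.1 inferInstance }
      show Etale (Spec.map (CommRingCat.ofHom (algebraMap k L)))
      exact (HasRingHomProperty.Spec_iff (P := @Etale)).2 (RingHom.etale_algebraMap.2 inferInstance)
    refine ⟨Presieve.singleton (SGA7.pt (K := k) L).hom,
      (Scheme.singleton_mem_precoverage_iff (P := @Etale) _).2 ⟨fun p => ⟨IsLocalRing.closedPoint L,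
        Subsingleton.elim (α := PrimeSpectrum k) _ _⟩, het⟩, ?_⟩
    rintro S' f ⟨⟩
    exact ⟨b.left, Over.w b⟩
  refine ⟨⟨⟨SGA7.pt (K := k) k, P, a, π, cart, loc, φ, hφ⟩, rfl⟩, res L.val ≫ b, fun τ => ?_, ?_⟩
  · show sm a (z.1 τ) (τ • (res L.val ≫ b)) = res L.val ≫ b
    rw [hw, smul_res, ← comp_sm, hb]
  · show (res L.val ≫ b) ≫ φ = x
    rw [Category.assoc, hbx, hy]

end Groth.Agent.StkTwLib
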