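import Groth.Agent.StkTwLib.Desc

/-! Rational points of twists. -/

set_option autoImplicit false
set_option linter.style.haveILetI false
set_option backward.isDefEq.respectTransparency false
set_option backward.isDefEq.respectTransparency.types false

universe u

open CategoryTheory CategoryTheory.Limits AlgebraicGeometry MonoidalCategory CartesianMonoidalCategory MonObj

namespace Groth.Agent.StkTwLib

open GalTw

variable {k : Type u} [Field k] {B : Type u} [Field B] [Algebra k B]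
variable {X Y G : Over (Spec (CommRingCat.of k))}

/-- A morphism of base changes as a morphism over the base field. -/
noncomputable def low (m : bcK B Y ⟶ bcK B X) : Y ⊗ SGA7.pt (K := k) B ⟶ X :=
  Over.homMk (m.left ≫ pullback.fst _ _) (by
    have h : m.left ≫ pullback.snd X.hom (SGA7.pt (K := k) B).hom = pullback.snd Y.hom (SGA7.pt (K := k) B).hom :=
      Over.w m
    show (m.left ≫ pullback.fst _ _) ≫ X.hom = pullback.fst _ _ ≫ Y.hom
    rw [Category.assoc, pullback.condition, reassoc_of% h, pullback.condition])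

theorem low_left (m : bcK B Y ⟶ bcK B X) : (low m).left = m.left ≫ pullback.fst _ _ := rfl

theorem lift_low_left (m : bcK B Y ⟶ bcK B X) : (lift (low m) (snd Y (SGA7.pt (K := k) B))).left = m.left := by
  apply pullback.hom_ext
  · exact congrArg (fun m => m.left) (lift_fst (low m) (snd Y (SGA7.pt (K := k) B)))
  · exact (congrArg (fun m => m.left) (lift_snd (low m) (snd Y (SGA7.pt (K := k) B)))).trans (Over.w m).symm

theorem low_comp {Z : Over (Spec (CommRingCat.of k))} (m : bcK B Z ⟶ bcK B Y) (m' : bcK B Y ⟶ bcK B X) :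
    low (m ≫ m') = lift (low m) (snd _ _) ≫ low m' := by
  apply Over.OverMorphism.ext
  show (m.left ≫ m'.left) ≫ _ = (lift (low m) (snd _ _)).left ≫ m'.left ≫ _
  rw [lift_low_left, Category.assoc]

theorem low_id : low (𝟙 (bcK B X)) = fst X (SGA7.pt (K := k) B) :=
  Over.OverMorphism.ext (Category.id_comp _)

theorem low_twHom (σ : B ≃ₐ[k] B) (m : bcK B Y ⟶ bcK B X) :
    low (twHom σ m) = (Y ◁ SGA7.specAut σ) ≫ low m := by
  apply Over.OverMorphism.ext
  show (galMap B σ Y ≫ m.left ≫ galMap B σ⁻¹ X) ≫ pullback.fst _ _ = (Y ◁ SGA7.specAut σ).left ≫ m.left ≫ _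
  rw [whiskerLeft_specAut_left, Category.assoc, Category.assoc, galMap_fst]

theorem lift_low_twHom (σ : B ≃ₐ[k] B) (m : bcK B Y ⟶ bcK B X) :
    lift (low (twHom σ m)) (snd _ _) = lift ((Y ◁ SGA7.specAut σ) ≫ low m) (snd Y (SGA7.pt (K := k) B)) := by
  rw [low_twHom]

theorem low_actK [GrpObj G] (a : AlgGrp.Action G X) (g : SGA7.Pts B G) :
    low (actK B a g) = sm a (snd _ _ ≫ g) (fst _ _) :=
  Over.OverMorphism.ext (pullback.lift_fst _ _ _)

theorem low_mul [GrpObj G] (m m' : bcK B Y ⟶ bcK B G) : low (m * m') = low m * low m' := by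
  let e := (Over.mapPullbackAdj (SGA7.pt (K := k) B).hom).homEquiv (bcK B Y) G
  let jj : Y ⊗ SGA7.pt (K := k) B ⟶ (Over.map (SGA7.pt (K := k) B).hom).obj (bcK B Y) :=
    Over.homMk (𝟙 _) (by
      exact (Category.id_comp _).trans pullback.condition.symm)
  have h : ∀ x, low (e x) = jj ≫ x := fun x => by
    apply Over.OverMorphism.ext
    show (e x).left ≫ pullback.fst _ _ = 𝟙 _ ≫ x.left
    simp only [e, Over.mapPullbackAdj, Adjunction.mkOfHomEquiv_homEquiv, Category.id_comp]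
    exact pullback.lift_fst _ _ _
  obtain ⟨x, rfl⟩ := e.surjective m
  obtain ⟨x', rfl⟩ := e.surjective m'
  rw [← GalTw9.homEquiv_mul, h, h, h, MonObj.comp_mul]

theorem low_innK [GrpObj G] (g : SGA7.Pts B G) :
    low (innK B g) = (snd _ _ ≫ g) * fst _ _ * (snd _ _ ≫ g)⁻¹ := by
  have h1 : low (toUnit (bcK B G) ≫ secOfPt B g) = snd G (SGA7.pt (K := k) B) ≫ g := by
    apply Over.OverMorphism.ext
    show ((toUnit (bcK B G)).left ≫ pullback.lift g.left (𝟙 _) _) ≫ pullback.fst _ _ = _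
    rw [Category.assoc, pullback.lift_fst]
    exact congrArg (· ≫ g.left) ((Category.comp_id _).symm.trans (Over.w (toUnit (bcK B G))))
  let f : (bcK B G ⟶ bcK B G) →* (G ⊗ SGA7.pt (K := k) B ⟶ G) := MonoidHom.mk' low low_mul
  show f ((toUnit _ ≫ secOfPt B g) * 𝟙 _ * (toUnit _ ≫ secOfPt B g)⁻¹) = _
  rw [map_mul, map_mul, map_inv]
  show low _ * low _ * (low _)⁻¹ = _
  rw [h1, low_id]

/-- The points of a twist. -/
noncomputable def ptsEquiv (φ : bcK B Y ≅ bcK B X) : SGA7.Pts B Y ≃ SGA7.Pts B X where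
  toFun y := lift y (𝟙 _) ≫ low φ.hom
  invFun x := lift x (𝟙 _) ≫ low φ.inv
  left_inv y := by
    have e : lift (lift y (𝟙 _) ≫ low φ.hom) (𝟙 _) = lift y (𝟙 _) ≫ lift (low φ.hom) (snd _ _) := by
      rw [comp_lift, lift_snd]
    show lift (lift y (𝟙 _) ≫ low φ.hom) (𝟙 _) ≫ low φ.inv = y
    rw [e, Category.assoc, ← low_comp, φ.hom_inv_id, low_id, lift_fst]
  right_inv x := by
    have e : lift (lift x (𝟙 _) ≫ low φ.inv) (𝟙 _) = lift x (𝟙 _) ≫ lift (low φ.inv) (snd _ _) := by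
      rw [comp_lift, lift_snd]
    show lift (lift x (𝟙 _) ≫ low φ.inv) (𝟙 _) ≫ low φ.hom = x
    rw [e, Category.assoc, ← low_comp, φ.inv_hom_id, low_id, lift_fst]

theorem ptsEquiv_smul (φ : bcK B Y ≅ bcK B X) (σ : B ≃ₐ[k] B) (y : SGA7.Pts B Y) :
    ptsEquiv φ (σ • y) = lift (σ • ptsEquiv φ y) (𝟙 _) ≫ low (cocycle φ σ).hom := by
  have h : φ.hom = twHom σ φ.hom ≫ (cocycle φ σ).hom := by
    show φ.hom = (twIso σ φ).hom ≫ (twIso σ φ).inv ≫ φ.hom
    rw [Iso.hom_inv_id_assoc]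
  show lift (σ • y) (𝟙 _) ≫ low φ.hom = lift (σ • (lift y (𝟙 _) ≫ low φ.hom)) (𝟙 _) ≫ low (cocycle φ σ).hom
  conv_lhs => rw [h, low_comp, lift_low_twHom, comp_lift_assoc, lift_snd, ← Category.assoc,
    lift_whiskerLeft, Category.id_comp]
  congr 2
  rw [pts_smul_def, pts_smul_def, ← Category.assoc, comp_lift, Category.comp_id]

variable [IsGalois k B]

theorem card_twist (φ : bcK B Y ≅ bcK B X) (S : Set (SGA7.Pts B X))
    (hS : ∀ x, x ∈ S ↔ ∀ σ, lift (σ • x) (𝟙 _) ≫ low (cocycle φ σ).hom = x) :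
    Nat.card (SGA7.Pts k Y) = Nat.card S := by
  let e : SGA7.Pts k Y → S := fun y => ⟨ptsEquiv φ (res (Algebra.ofId k B) ≫ y), (hS _).2 fun σ => by
    rw [← ptsEquiv_smul, (exists_rational_iff _).2 ⟨y, rfl⟩ σ]⟩
  refine Nat.card_congr (Equiv.ofBijective e ⟨fun y y' h => ?_, fun x => ?_⟩)
  · exact res_cancel _ ((ptsEquiv φ).injective (congrArg Subtype.val h))
  · obtain ⟨p, hp⟩ := (ptsEquiv φ).surjective x.1
    obtain ⟨y, hy⟩ := (exists_rational_iff p).1 fun σ => (ptsEquiv φ).injective (by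
      rw [ptsEquiv_smul, hp, (hS _).1 x.2 σ])
    exact ⟨y, Subtype.ext ((congrArg (ptsEquiv φ) hy).trans hp)⟩

theorem card_actTwist [GrpObj G] (a : AlgGrp.Action G X) (z : GpH1.OneCocycle (B ≃ₐ[k] B) (SGA7.Pts B G))
    (h : IsActTwist B a z Y) :
    Nat.card (SGA7.Pts k Y) = Nat.card {x : SGA7.Pts B X | ∀ σ, sm a (z σ) (σ • x) = x} := by
  obtain ⟨φ, hφ⟩ := h
  refine card_twist φ _ fun x => forall_congr' fun σ => ?_
  rw [hφ σ, low_actK, comp_sm, lift_snd_assoc, lift_fst, Category.id_comp]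

theorem card_innTwist [GrpObj G] [GrpObj Y] (z : GpH1.OneCocycle (B ≃ₐ[k] B) (SGA7.Pts B G))
    (h : IsInnTwist B G z Y) :
    Nat.card (SGA7.Pts k Y) = Nat.card {g : SGA7.Pts B G | ∀ σ, z σ * σ • g = g * z σ} := by
  obtain ⟨φ, -, hφ⟩ := h
  refine card_twist φ _ fun x => forall_congr' fun σ => ?_
  rw [hφ σ, low_innK, MonObj.comp_mul, MonObj.comp_mul, GrpObj.comp_inv, lift_snd_assoc, lift_fst,
    Category.id_comp, mul_inv_eq_iff_eq_mul]

end Groth.Agent.StkTwLib
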