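import Groth.Agent.StkTwLib.Marks
import Groth.Agent.StkTwLib.Exists
import Mathlib.FieldTheory.Finite.Extension
import Mathlib.Algebra.CharP.Algebra

/-! Cocycles of the Galois group of a finite field: they are determined by the value at Frobenius. -/

set_option autoImplicit false
set_option linter.style.haveILetI false
set_option backward.isDefEq.respectTransparency false
set_option backward.isDefEq.respectTransparency.types false

universe u

open CategoryTheory CategoryTheory.Limits AlgebraicGeometry MonoidalCategory CartesianMonoidalCategory MonObj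

namespace Groth.Agent.StkTwLib

variable {k : Type u} [Field k] {B : Type u} [Field B] [Algebra k B]

/-- Every point of a scheme locally of finite type over an algebraic extension is defined over a finite one. -/
theorem lc_of_lft [Algebra.IsAlgebraic k B] {X : Over (Spec (CommRingCat.of k))} [LocallyOfFiniteType X.hom]
    (p : SGA7.Pts B X) : Lc p := by
  classical
  let y : Spec (CommRingCat.of B) := IsLocalRing.closedPoint B
  obtain ⟨U, hU, hyU, -⟩ := exists_isAffineOpen_mem_and_subset (x := p.left.base y) (U := ⊤) trivial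
  have hr : Set.range p.left.base ⊆ Set.range hU.fromSpec.base := by
    rintro _ ⟨w, rfl⟩
    rw [hU.range_fromSpec, Subsingleton.elim (α := PrimeSpectrum B) w y]
    exact hyU
  obtain ⟨φ, hφ⟩ := Spec.map_surjective (IsOpenImmersion.lift hU.fromSpec p.left hr)
  obtain ⟨r, hr'⟩ := Spec.map_surjective (hU.fromSpec ≫ X.hom)
  letI : Algebra k Γ(X.left, U) := r.hom.toAlgebra
  have hft : Algebra.FiniteType k Γ(X.left, U) := by
    refine (HasRingHomProperty.Spec_iff (P := @LocallyOfFiniteType) (φ := r)).1 ?_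
    rw [hr']
    infer_instance
  have hp : Spec.map φ ≫ hU.fromSpec = p.left := by rw [hφ, IsOpenImmersion.lift_fac]
  have h1 : r ≫ φ = CommRingCat.ofHom (algebraMap k B) := by
    apply Spec.map_injective
    rw [Spec.map_comp, hr', ← Category.assoc, hp]
    exact Over.w p
  let f : Γ(X.left, U) →ₐ[k] B := { φ.hom with commutes' := fun c => congrArg (fun q => q.hom c) h1 }
  obtain ⟨T, hT⟩ := hft.out
  refine ⟨IntermediateField.adjoin k (T.image f : Set B),
    IntermediateField.finiteDimensional_adjoin fun x _ => (Algebra.IsAlgebraic.isAlgebraic x).isIntegral,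
    fun σ hσ => ?_⟩
  have hf : σ.toAlgHom.comp f = f := AlgHom.ext_of_adjoin_eq_top hT fun t ht =>
    (IntermediateField.mem_fixingSubgroup_iff _ σ).1 hσ _
      (IntermediateField.subset_adjoin k _ (Finset.mem_coe.2 (Finset.mem_image_of_mem f ht)))
  apply Over.OverMorphism.ext
  show Spec.map (CommRingCat.ofHom (σ : B →+* B)) ≫ p.left = p.left
  rw [← hp, ← Spec.map_comp_assoc]
  congr 2
  ext c
  exact AlgHom.congr_fun hf c

theorem restrict_eq_of_le [IsGalois k B] {L₁ L₂ : IntermediateField k B} [Normal k L₁] [Normal k L₂] (h : L₁ ≤ L₂)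
    {σ τ : B ≃ₐ[k] B} (e : AlgEquiv.restrictNormalHom L₂ σ = AlgEquiv.restrictNormalHom L₂ τ) :
    AlgEquiv.restrictNormalHom L₁ σ = AlgEquiv.restrictNormalHom L₁ τ := by
  refine AlgEquiv.ext fun c => Subtype.ext ?_
  have h1 : ((AlgEquiv.restrictNormalHom L₂ σ ⟨c, h c.2⟩ : L₂) : B) = AlgEquiv.restrictNormalHom L₂ τ ⟨c, h c.2⟩ :=
    congrArg (fun g : L₂ ≃ₐ[k] L₂ => ((g ⟨c, h c.2⟩ : L₂) : B)) e
  exact (AlgEquiv.restrictNormal_commutes σ L₁ c).trans ((((AlgEquiv.restrictNormal_commutes σ L₂ ⟨c, h c.2⟩).symm.trans h1).trans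
    (AlgEquiv.restrictNormal_commutes τ L₂ ⟨c, h c.2⟩)).trans (AlgEquiv.restrictNormal_commutes τ L₁ c).symm)

variable [Finite k]

/-- The arithmetic Frobenius. -/
noncomputable def frob (B : Type u) [Field B] [Algebra k B] [Algebra.IsAlgebraic k B] : B ≃ₐ[k] B :=
  letI := Fintype.ofFinite k
  FiniteField.frobeniusAlgEquivOfAlgebraic k B

theorem restrict_frob [IsGalois k B] (L : IntermediateField k B) [Normal k L] :
    AlgEquiv.restrictNormalHom L (frob (k := k) B) = frob L := by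
  letI := Fintype.ofFinite k
  refine AlgEquiv.ext fun c => Subtype.ext ?_
  refine (AlgEquiv.restrictNormal_commutes (frob (k := k) B) L c).trans ?_
  simp [frob, FiniteField.coe_frobeniusAlgEquivOfAlgebraic]

theorem exists_pow_frob {L : Type u} [Field L] [Algebra k L] [FiniteDimensional k L] (σ : L ≃ₐ[k] L) :
    ∃ n : ℕ, frob (k := k) L ^ n = σ := by
  letI := Fintype.ofFinite k
  haveI : Finite L := Module.finite_of_finite k
  obtain ⟨n, hn⟩ := (FiniteField.bijective_frobeniusAlgEquivOfAlgebraic_pow k L).2 σ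
  exact ⟨n.1, hn⟩

theorem orderOf_frob {L : Type u} [Field L] [Algebra k L] [FiniteDimensional k L] :
    orderOf (frob (k := k) L) = Module.finrank k L := by
  letI := Fintype.ofFinite k
  haveI : Finite L := Module.finite_of_finite k
  exact FiniteField.orderOf_frobeniusAlgEquivOfAlgebraic k L

theorem exists_subfield [IsAlgClosed B] (n : ℕ) [NeZero n] :
    ∃ L : IntermediateField k B, FiniteDimensional k L ∧ Module.finrank k L = n := by
  obtain ⟨p, hp⟩ := CharP.exists k
  haveI : Fact p.Prime := ⟨(CharP.char_is_prime_or_zero k p).resolve_right fun h => by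
    subst h
    haveI := CharP.charP_to_charZero k
    haveI := Infinite.of_injective (Nat.cast : ℕ → k) Nat.cast_injective
    exact not_finite k⟩
  let ψ : FiniteField.Extension k p n →ₐ[k] B := IsAlgClosed.lift
  let e : FiniteField.Extension k p n ≃ₗ[k] ψ.fieldRange :=
    LinearEquiv.ofInjective ψ.toLinearMap ψ.toRingHom.injective
  exact ⟨ψ.fieldRange, Module.Finite.equiv e, e.finrank_eq.symm.trans (FiniteField.finrank_extension k p n)⟩

variable [IsAlgClosed B] [IsGalois k B] {G : Over (Spec (CommRingCat.of k))} [GrpObj G]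

theorem cocycle_ext {z z' : GpH1.OneCocycleLC (B ≃ₐ[k] B) (SGA7.Pts B G)}
    (h : z.1 (frob B) = z'.1 (frob B)) : z = z' := by
  obtain ⟨L₁, h₁, hz⟩ := exists_fixing_one z
  obtain ⟨L₂, h₂, hz'⟩ := exists_fixing_one z'
  haveI : FiniteDimensional k ↥(L₁ ⊔ L₂) := IntermediateField.finiteDimensional_sup L₁ L₂
  haveI : Finite ↥(L₁ ⊔ L₂) := Module.finite_of_finite k
  haveI : IsGalois k ↥(L₁ ⊔ L₂) := inferInstance
  have hpow : ∀ i : ℕ, z.1 (frob B ^ i) = z'.1 (frob B ^ i) := fun i => by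
    induction i with
    | zero => rw [pow_zero, GalTw.oneCocycle_one, GalTw.oneCocycle_one]
    | succ i ih => rw [pow_succ, z.1.2, z'.1.2, ih, h]
  refine Subtype.ext (Subtype.ext (funext fun σ => ?_))
  obtain ⟨i, hi⟩ := exists_pow_frob (AlgEquiv.restrictNormalHom ↥(L₁ ⊔ L₂) σ)
  have hmem : (frob (k := k) B ^ i)⁻¹ * σ ∈ (L₁ ⊔ L₂).fixingSubgroup := by
    rw [IntermediateField.mem_fixingSubgroup_iff]
    intro c hc
    have e : AlgEquiv.restrictNormalHom ↥(L₁ ⊔ L₂) ((frob (k := k) B ^ i)⁻¹ * σ) = 1 := by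
      rw [map_mul, map_inv, map_pow, restrict_frob, hi, inv_mul_cancel]
    have e' : ((AlgEquiv.restrictNormalHom ↥(L₁ ⊔ L₂) ((frob (k := k) B ^ i)⁻¹ * σ) ⟨c, hc⟩ : ↥(L₁ ⊔ L₂)) : B) = c := by
      rw [e]; rfl
    exact (AlgEquiv.restrictNormal_commutes _ ↥(L₁ ⊔ L₂) ⟨c, hc⟩).symm.trans e'
  rw [← mul_inv_cancel_left (frob (k := k) B ^ i) σ, z.1.2, z'.1.2, hpow,
    hz _ (IntermediateField.fixingSubgroup_antitone le_sup_left hmem),
    hz' _ (IntermediateField.fixingSubgroup_antitone le_sup_right hmem)]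

theorem exists_cocycle_frob [LocallyOfFiniteType G.hom] [QuasiCompact G.hom] (a : SGA7.Pts B G) :
    ∃ z : GpH1.OneCocycleLC (B ≃ₐ[k] B) (SGA7.Pts B G), z.1 (frob B) = a := by
  classical
  obtain ⟨L₀, hL₀, hfix⟩ := lc_of_lft a
  haveI : Finite L₀ := Module.finite_of_finite k
  obtain ⟨a', ha'⟩ := exists_desc_of_fixed L₀.val (fixed_mem L₀) a fun σ hσ =>
    hfix σ ((IntermediateField.mem_fixingSubgroup_iff L₀ σ).2 fun c hc => hσ ⟨c, hc⟩)
  haveI : Finite (SGA7.Pts L₀ G) := finite_pts (A := L₀) G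
  let f : L₀ ≃ₐ[k] L₀ := frob L₀
  let v : ℕ → SGA7.Pts L₀ G := fun i => Nat.rec 1 (fun j r => r * f ^ j • a') i
  have hv0 : v 0 = 1 := rfl
  have hvs : ∀ i, v (i + 1) = v i * f ^ i • a' := fun i => rfl
  have hadd : ∀ i j, v (i + j) = v i * f ^ i • v j := fun i j => by
    induction j with
    | zero => rw [Nat.add_zero, hv0, smul_one, _root_.mul_one]
    | succ j ih => rw [← Nat.add_assoc, hvs, ih, hvs, smul_mul', smul_smul, ← pow_add, _root_.mul_assoc]
  set m := Module.finrank k L₀ with hm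
  have hfm : f ^ m = 1 := by rw [hm, ← orderOf_frob (k := k) (L := L₀)]; exact pow_orderOf_eq_one _
  have hmul : ∀ j, v (m * j) = v m ^ j := fun j => by
    induction j with
    | zero => rw [Nat.mul_zero, hv0, pow_zero]
    | succ j ih => rw [Nat.mul_succ, hadd, ih, pow_mul, hfm, one_pow, one_smul, pow_succ]
  set n := m * orderOf (v m) with hn
  have hvn : v n = 1 := by rw [hn, hmul, pow_orderOf_eq_one]
  haveI : NeZero n := ⟨Nat.mul_ne_zero Module.finrank_pos.ne' (orderOf_pos _).ne'⟩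
  have hper : ∀ i, v i = v (i % n) := fun i => by
    have h1 : ∀ q r, v (n * q + r) = v r := fun q r => by
      induction q with
      | zero => rw [Nat.mul_zero, Nat.zero_add]
      | succ q ih =>
        rw [show n * (q + 1) + r = n + (n * q + r) by ring, hadd, hvn, _root_.one_mul, ih,
          show f ^ n = 1 by rw [hn, pow_mul, hfm, one_pow], one_smul]
    conv_lhs => rw [← Nat.div_add_mod i n]
    exact h1 _ _
  obtain ⟨L₁, hL₁, hdeg⟩ := exists_subfield (k := k) (B := B) n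
  haveI : FiniteDimensional k ↥(L₀ ⊔ L₁) := IntermediateField.finiteDimensional_sup L₀ L₁
  haveI : Finite ↥(L₀ ⊔ L₁) := Module.finite_of_finite k
  haveI : Finite L₁ := Module.finite_of_finite k
  haveI : IsGalois k L₁ := inferInstance
  haveI : IsGalois k L₀ := inferInstance
  haveI : IsGalois k ↥(L₀ ⊔ L₁) := inferInstance
  let r := AlgEquiv.restrictNormalHom (F := k) (K₁ := B) ↥(L₀ ⊔ L₁)
  have hex : ∀ s : ↥(L₀ ⊔ L₁) ≃ₐ[k] ↥(L₀ ⊔ L₁), ∃ i : ℕ, frob (k := k) ↥(L₀ ⊔ L₁) ^ i = s := exists_pow_frob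
  choose e he using hex
  have hr : ∀ σ, r σ = r (frob (k := k) B ^ e (r σ)) := fun σ => by
    rw [map_pow]
    show r σ = AlgEquiv.restrictNormalHom ↥(L₀ ⊔ L₁) (frob (k := k) B) ^ e (r σ)
    rw [restrict_frob, he]
  have hmod : ∀ (σ : B ≃ₐ[k] B) (i : ℕ), r σ = r (frob (k := k) B ^ i) → v (e (r σ)) = v i := by
    intro σ i h
    have h1 := restrict_eq_of_le (le_sup_right (a := L₀) : L₁ ≤ L₀ ⊔ L₁) ((hr σ).symm.trans h)
    rw [map_pow, map_pow, restrict_frob, pow_eq_pow_iff_modEq, orderOf_frob, hdeg] at h1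
    rw [hper, hper i, h1]
  have hact : ∀ σ (y : SGA7.Pts L₀ G), σ • (res L₀.val ≫ y) = res L₀.val ≫ (f ^ e (r σ) • y) := fun σ y => by
    rw [smul_res]
    congr 2
    rw [restrict_eq_of_le (le_sup_left (b := L₁) : L₀ ≤ L₀ ⊔ L₁) (hr σ), map_pow, restrict_frob]
  let z₀ : (B ≃ₐ[k] B) → SGA7.Pts B G := fun σ => res L₀.val ≫ v (e (r σ))
  have hz : ∀ σ τ, z₀ (σ * τ) = z₀ σ * σ • z₀ τ := fun σ τ => by
    show res L₀.val ≫ v (e (r (σ * τ))) = res L₀.val ≫ v (e (r σ)) * σ • (res L₀.val ≫ v (e (r τ)))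
    rw [hact, ← MonObj.comp_mul, ← hadd, hmod _ (e (r σ) + e (r τ))]
    rw [map_mul, pow_add, map_mul, ← hr, ← hr]
  refine ⟨⟨⟨z₀, hz⟩, (IsLocallyConstant.iff_exists_open _).2 fun σ => ?_⟩, ?_⟩
  · refine ⟨(fun τ => σ⁻¹ * τ) ⁻¹' ((L₀ ⊔ L₁).fixingSubgroup : Set (B ≃ₐ[k] B)),
      (IntermediateField.fixingSubgroup_isOpen _).preimage (continuous_const.mul continuous_id), ?_, ?_⟩
    · simpa using one_mem (L₀ ⊔ L₁).fixingSubgroup
    · intro τ hτ
      show z₀ τ = z₀ σ
      have h1 : r (σ⁻¹ * τ) = 1 := AlgEquiv.ext fun c => Subtype.ext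
        ((AlgEquiv.restrictNormal_commutes (σ⁻¹ * τ) ↥(L₀ ⊔ L₁) c).trans
          ((IntermediateField.mem_fixingSubgroup_iff _ (σ⁻¹ * τ)).1 hτ _ c.2))
      have h2 : r τ = r σ := by rw [← mul_inv_cancel_left σ τ, map_mul, h1, _root_.mul_one]
      simp only [z₀, h2]
  · show res L₀.val ≫ v (e (r (frob B))) = a
    rw [hmod _ 1 (by rw [pow_one]), show v 1 = a' by rw [show v 1 = v 0 * f ^ 0 • a' from rfl, hv0, pow_zero, one_smul, _root_.one_mul], ha']

end Groth.Agent.StkTwLib
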