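import Groth.Prelude.Def_GalTw2
import Groth.Agent.GalTw9.Hom
import Mathlib.AlgebraicGeometry.Morphisms.FiniteType
import Mathlib.AlgebraicGeometry.ResidueField
import Mathlib.FieldTheory.Galois.Infinite
import Mathlib.FieldTheory.IsAlgClosed.AlgebraicClosure
import Mathlib.FieldTheory.Finite.Basic
import Mathlib.FieldTheory.KrullTopology
import Mathlib.LinearAlgebra.LinearIndependent.Defs

/-! Points over an extension field: Galois descent, finiteness over finite fields. -/

set_option autoImplicit false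
set_option backward.isDefEq.respectTransparency false
set_option backward.isDefEq.respectTransparency.types false

universe u

open CategoryTheory CategoryTheory.Limits AlgebraicGeometry

namespace Groth.Agent.StkTwLib

variable {k : Type u} [Field k]

/-- The morphism of points of a map of fields over `k`. -/
noncomputable def res {A B : Type u} [Field A] [Algebra k A] [Field B] [Algebra k B] (ψ : A →ₐ[k] B) :
    SGA7.pt (K := k) B ⟶ SGA7.pt (K := k) A :=
  Over.homMk (Spec.map (CommRingCat.ofHom ψ.toRingHom)) (by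
    show Spec.map _ ≫ Spec.map _ = Spec.map _
    rw [← Spec.map_comp, ← CommRingCat.ofHom_comp]
    congr 2
    exact ψ.comp_algebraMap)

theorem res_comp {A B C : Type u} [Field A] [Algebra k A] [Field B] [Algebra k B] [Field C] [Algebra k C]
    (f : A →ₐ[k] B) (g : B →ₐ[k] C) : res g ≫ res f = res (g.comp f) := by
  apply Over.OverMorphism.ext
  show Spec.map _ ≫ Spec.map _ = Spec.map _
  rw [← Spec.map_comp, ← CommRingCat.ofHom_comp]
  rfl

theorem specAut_eq_res {A : Type u} [Field A] [Algebra k A] (σ : A ≃ₐ[k] A) :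
    SGA7.specAut (K := k) σ = res σ.toAlgHom := rfl

theorem res_id {A : Type u} [Field A] [Algebra k A] : res (AlgHom.id k A) = 𝟙 (SGA7.pt (K := k) A) := by
  apply Over.OverMorphism.ext
  exact Spec.map_id _

theorem res_cancel {A B : Type u} [Field A] [Algebra k A] [Field B] [Algebra k B] (ψ : A →ₐ[k] B)
    {X : Over (Spec (CommRingCat.of k))} {p q : SGA7.Pts A X} (h : res ψ ≫ p = res ψ ≫ q) : p = q := by
  have h' : Spec.map (CommRingCat.ofHom ψ.toRingHom) ≫ p.left = Spec.map (CommRingCat.ofHom ψ.toRingHom) ≫ q.left :=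
    congrArg (fun m => m.left) h
  apply Over.OverMorphism.ext
  apply (Scheme.SpecToEquivOfField A X.left).injective
  have key : ∀ m : Spec (CommRingCat.of A) ⟶ X.left,
      Scheme.SpecToEquivOfField B X.left (Spec.map (CommRingCat.ofHom ψ.toRingHom) ≫ m) =
        ⟨(Scheme.SpecToEquivOfField A X.left m).1,
          (Scheme.SpecToEquivOfField A X.left m).2 ≫ CommRingCat.ofHom ψ.toRingHom⟩ := by
    intro m
    refine (Scheme.SpecToEquivOfField B X.left).symm.injective ?_
    rw [Equiv.symm_apply_apply]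
    show _ = Spec.map ((Scheme.SpecToEquivOfField A X.left m).2 ≫ CommRingCat.ofHom ψ.toRingHom) ≫
      X.left.fromSpecResidueField (Scheme.SpecToEquivOfField A X.left m).1
    conv_lhs => rw [← (Scheme.SpecToEquivOfField A X.left).symm_apply_apply m]
    show Spec.map _ ≫ (Spec.map _ ≫ X.left.fromSpecResidueField _) = _
    rw [Spec.map_comp, Category.assoc]
  have h2 := congrArg (Scheme.SpecToEquivOfField B X.left) h'
  rw [key, key] at h2
  generalize Scheme.SpecToEquivOfField A X.left p.left = u, Scheme.SpecToEquivOfField A X.left q.left = v at h2 ⊢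
  obtain ⟨x, a⟩ := u
  obtain ⟨y, b⟩ := v
  obtain rfl : x = y := congrArg Sigma.fst h2
  have h3 := eq_of_heq (Sigma.mk.inj h2).2
  refine Sigma.ext rfl (heq_of_eq ?_)
  ext c
  exact ψ.toRingHom.injective (congrArg (fun m => m.hom c) h3)

/-- A point fixed by the automorphisms over a subfield is defined over it. -/
theorem exists_desc_of_fixed {A B : Type u} [Field A] [Algebra k A] [Field B] [Algebra k B] (ψ : A →ₐ[k] B)
    (hfix : ∀ c : B, (∀ σ : B ≃ₐ[k] B, (∀ a, σ (ψ a) = ψ a) → σ c = c) → c ∈ Set.range ψ)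
    {X : Over (Spec (CommRingCat.of k))} (x : SGA7.Pts B X)
    (hx : ∀ σ : B ≃ₐ[k] B, (∀ a, σ (ψ a) = ψ a) → σ • x = x) : ∃ y : SGA7.Pts A X, res ψ ≫ y = x := by
  let z := Scheme.SpecToEquivOfField B X.left x.left
  have hz : Spec.map z.2 ≫ X.left.fromSpecResidueField z.1 = x.left :=
    (Scheme.SpecToEquivOfField B X.left).symm_apply_apply x.left
  have hmem : ∀ c, z.2 c ∈ Set.range ψ := by
    intro c
    refine hfix _ fun σ hσ => ?_
    have h1 : Spec.map (CommRingCat.ofHom (σ : B →+* B)) ≫ x.left = x.left :=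
      congrArg (fun m : SGA7.Pts B X => m.left) (hx σ hσ)
    have h2 : z.2 ≫ CommRingCat.ofHom (σ : B →+* B) = z.2 := by
      refine Spec.map_injective ((cancel_mono (X.left.fromSpecResidueField z.1)).mp ?_)
      rw [Spec.map_comp, Category.assoc, hz]
      exact h1
    exact congrArg (fun m => m.hom c) h2
  choose g hg using hmem
  let g' : X.left.residueField z.1 →+* A :=
    { toFun := g
      map_one' := ψ.toRingHom.injective (show ψ (g 1) = ψ 1 by rw [hg, map_one, map_one])
      map_zero' := ψ.toRingHom.injective (show ψ (g 0) = ψ 0 by rw [hg, map_zero, map_zero])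
      map_mul' := fun c d => ψ.toRingHom.injective (show ψ (g (c * d)) = ψ (g c * g d) by
        rw [hg, map_mul, map_mul, hg, hg])
      map_add' := fun c d => ψ.toRingHom.injective (show ψ (g (c + d)) = ψ (g c + g d) by
        rw [hg, map_add, map_add, hg, hg]) }
  have hg' : CommRingCat.ofHom g' ≫ CommRingCat.ofHom ψ.toRingHom = z.2 := by ext c; exact hg c
  obtain ⟨t, ht⟩ := Spec.map_surjective (X.left.fromSpecResidueField z.1 ≫ X.hom)
  refine ⟨Over.homMk (Spec.map (CommRingCat.ofHom g') ≫ X.left.fromSpecResidueField z.1) ?_, ?_⟩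
  · refine (Category.assoc _ _ _).trans ((congrArg (_ ≫ ·) ht.symm).trans ((Spec.map_comp _ _).symm.trans ?_))
    show Spec.map _ = Spec.map (CommRingCat.ofHom (algebraMap k A))
    congr 1
    have h1 : (t ≫ CommRingCat.ofHom g') ≫ CommRingCat.ofHom ψ.toRingHom = CommRingCat.ofHom (algebraMap k B) := by
      rw [Category.assoc, hg']
      apply Spec.map_injective
      rw [Spec.map_comp, ht, ← Category.assoc, hz]
      exact Over.w x
    refine CommRingCat.hom_ext (RingHom.ext fun c => ψ.toRingHom.injective ?_)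
    exact (congrArg (fun m => m.hom c) h1).trans (ψ.commutes c).symm
  · apply Over.OverMorphism.ext
    show Spec.map _ ≫ Spec.map _ ≫ _ = _
    rw [← Category.assoc, ← Spec.map_comp, hg', hz]

section Galois

variable {B : Type u} [Field B] [Algebra k B] [IsGalois k B]

theorem fixed_mem (L : IntermediateField k B) :
    ∀ c : B, (∀ σ : B ≃ₐ[k] B, (∀ a : L, σ (L.val a) = L.val a) → σ c = c) → c ∈ Set.range L.val := by
  intro c hc
  have h1 : c ∈ IntermediateField.fixedField L.fixingSubgroup := by
    intro σ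
    exact hc σ.1 fun a => ((IntermediateField.mem_fixingSubgroup_iff L σ.1).1 σ.2) a.1 a.2
  rw [InfiniteGalois.fixedField_fixingSubgroup] at h1
  exact ⟨⟨c, h1⟩, rfl⟩

theorem fixed_mem_base :
    ∀ c : B, (∀ σ : B ≃ₐ[k] B, (∀ a : k, σ (Algebra.ofId k B a) = Algebra.ofId k B a) → σ c = c) →
      c ∈ Set.range (Algebra.ofId k B) := by
  intro c hc
  obtain ⟨a, ha⟩ := fixed_mem (⊥ : IntermediateField k B) c fun σ _ => hc σ fun a => σ.commutes a
  obtain ⟨b, hb⟩ := IntermediateField.mem_bot.1 a.2
  exact ⟨b, hb.trans ha⟩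

/-- Rational points are the points fixed by the Galois group. -/
theorem exists_rational_iff {X : Over (Spec (CommRingCat.of k))} (x : SGA7.Pts B X) :
    (∀ σ : B ≃ₐ[k] B, σ • x = x) ↔ ∃ y : SGA7.Pts k X, res (Algebra.ofId k B) ≫ y = x := by
  refine ⟨fun h => exists_desc_of_fixed _ fixed_mem_base x fun σ _ => h σ, ?_⟩
  rintro ⟨y, rfl⟩ σ
  show SGA7.specAut σ ≫ res _ ≫ y = _
  rw [← Category.assoc, specAut_eq_res, res_comp]
  rw [show σ.toAlgHom.comp (Algebra.ofId k B) = Algebra.ofId k B from AlgHom.ext fun a => σ.commutes a]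

end Galois

section Finite

variable [Finite k] {A : Type u} [Field A] [Algebra k A] [Finite A]

theorem finite_pts (X : Over (Spec (CommRingCat.of k))) [LocallyOfFiniteType X.hom] [QuasiCompact X.hom] :
    Finite (SGA7.Pts A X) := by
  classical
  haveI : CompactSpace X.left := QuasiCompact.compactSpace_of_compactSpace X.hom
  let 𝒰 := X.left.affineCover.finiteSubcover
  haveI : Finite 𝒰.I₀ := inferInstance
  haveI : ∀ i, IsAffine (𝒰.X i) := fun i => inferInstanceAs (IsAffine (X.left.affineCover.X _))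
  let P : 𝒰.I₀ → Type u := fun i => {m : Spec (CommRingCat.of A) ⟶ 𝒰.X i //
    m ≫ 𝒰.f i ≫ X.hom = Spec.map (CommRingCat.ofHom (algebraMap k A))}
  have : ∀ i, Finite (P i) := fun i => by
    let e := (𝒰.X i).isoSpec
    obtain ⟨s, hs⟩ := Spec.map_surjective (e.inv ≫ 𝒰.f i ≫ X.hom)
    letI : Algebra k Γ(𝒰.X i, ⊤) := s.hom.toAlgebra
    have hft : Algebra.FiniteType k Γ(𝒰.X i, ⊤) := by
      refine (HasRingHomProperty.Spec_iff (P := @LocallyOfFiniteType) (φ := s)).1 ?_
      rw [hs]
      infer_instance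
    obtain ⟨T, hT⟩ := hft.out
    haveI : Finite (Γ(𝒰.X i, ⊤) →ₐ[k] A) :=
      Finite.of_injective (fun φ => fun t : T => φ t.1) fun φ ψ h =>
        AlgHom.ext_of_adjoin_eq_top hT fun t ht => congrFun h ⟨t, ht⟩
    let g : (Γ(𝒰.X i, ⊤) →ₐ[k] A) → P i := fun φ =>
      ⟨Spec.map (CommRingCat.ofHom φ.toRingHom) ≫ e.inv, by
        rw [Category.assoc, ← hs, ← Spec.map_comp]
        congr 1
        ext c
        exact φ.commutes c⟩
    refine Finite.of_surjective g fun m => ?_
    obtain ⟨φ, hφ⟩ := Spec.map_surjective (m.1 ≫ e.hom)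
    have h1 : s ≫ φ = CommRingCat.ofHom (algebraMap k A) := by
      apply Spec.map_injective
      rw [Spec.map_comp, hφ, hs, Category.assoc, Iso.hom_inv_id_assoc, m.2]
    refine ⟨{ φ.hom with commutes' := fun c => congrArg (fun q => q.hom c) h1 }, Subtype.ext ?_⟩
    show Spec.map φ ≫ e.inv = m.1
    rw [hφ, Category.assoc, Iso.hom_inv_id, Category.comp_id]
  let g : (Σ i, P i) → SGA7.Pts A X := fun m =>
    Over.homMk (m.2.1 ≫ 𝒰.f m.1) ((Category.assoc _ _ _).trans m.2.2)
  refine Finite.of_surjective g fun p => ?_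
  let z : Spec (CommRingCat.of A) := IsLocalRing.closedPoint A
  obtain ⟨i, y, hy⟩ := Scheme.Cover.exists_eq 𝒰 (p.left.base z)
  have hr : Set.range p.left.base ⊆ Set.range (𝒰.f i).base := by
    rintro _ ⟨w, rfl⟩
    exact ⟨y, hy.trans (congrArg _ (Subsingleton.elim (α := PrimeSpectrum A) _ _))⟩
  refine ⟨⟨i, IsOpenImmersion.lift (𝒰.f i) p.left hr, ?_⟩, Over.OverMorphism.ext (IsOpenImmersion.lift_fac _ _ _)⟩
  rw [IsOpenImmersion.lift_fac_assoc]
  exact Over.w p

/-- The points fixed by an open subgroup of the Galois group form a finite set. -/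
theorem finite_fixed {B : Type u} [Field B] [Algebra k B] [IsGalois k B]
    (X : Over (Spec (CommRingCat.of k))) [LocallyOfFiniteType X.hom] [QuasiCompact X.hom]
    (L : IntermediateField k B) [FiniteDimensional k L] :
    {x : SGA7.Pts B X | ∀ σ ∈ L.fixingSubgroup, σ • x = x}.Finite := by
  haveI : Finite L := Module.finite_of_finite k
  haveI := finite_pts (A := L) X
  refine (Set.finite_range fun y : SGA7.Pts L X => res L.val ≫ y).subset fun x hx => ?_
  exact exists_desc_of_fixed L.val (fixed_mem L) x fun σ hσ =>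
    hx σ ((IntermediateField.mem_fixingSubgroup_iff L σ).2 fun a ha => hσ ⟨a, ha⟩)

end Finite

end Groth.Agent.StkTwLib
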