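import Groth.Prelude.Def_AlgGrp
import Groth.Prelude.Def_Red
import Groth.Agent.GrpSchLib.Action
import Groth.Agent.StkTwLib.Desc
import Mathlib.CategoryTheory.Monoidal.Cartesian.Over
import Mathlib.CategoryTheory.Limits.Constructions.Over.Connected

/-! Actions of a group scheme and of its base change, along the forgetful functor of a morphism of bases. -/

set_option autoImplicit false
set_option linter.style.haveILetI false
set_option backward.isDefEq.respectTransparency false
set_option backward.isDefEq.respectTransparency.types false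

universe u

open CategoryTheory CategoryTheory.Limits AlgebraicGeometry MonoidalCategory CartesianMonoidalCategory MonObj

namespace Groth.Agent.StkTwLib

variable {S S' : Scheme.{u}} (f : S' ⟶ S)

/-- The adjunction bijection. -/
noncomputable def adjE (Z : Over S') (X : Over S) : ((Over.map f).obj Z ⟶ X) ≃ (Z ⟶ Red.bc f X) :=
  (Over.mapPullbackAdj f).homEquiv Z X

variable {f} {Z Z' Y Y' : Over S'} {G X X₁ : Over S}

theorem adjE_comp_left (u : Z' ⟶ Z) (g : (Over.map f).obj Z ⟶ X) :
    adjE f Z' X ((Over.map f).map u ≫ g) = u ≫ adjE f Z X g :=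
  Adjunction.homEquiv_naturality_left _ _ _

theorem adjE_symm_comp_left (u : Z' ⟶ Z) (g : Z ⟶ Red.bc f X) :
    (adjE f Z' X).symm (u ≫ g) = (Over.map f).map u ≫ (adjE f Z X).symm g :=
  Adjunction.homEquiv_naturality_left_symm _ _ _

variable [GrpObj G]

theorem adjE_mul (x y : (Over.map f).obj Z ⟶ G) : adjE f Z G (x * y) = adjE f Z G x * adjE f Z G y := by
  simp only [adjE]
  rw [Adjunction.homEquiv_unit, Adjunction.homEquiv_unit, Adjunction.homEquiv_unit, Functor.map_mul,
    MonObj.comp_mul]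

theorem adjE_one : adjE f Z G 1 = 1 :=
  (MonoidHom.mk' (adjE f Z G) adjE_mul).map_one

variable (f)

omit [GrpObj G] in
theorem exists_pres {W : Over S} {Y : Over S'} (r : W ⟶ (Over.map f).obj Y) :
    ∃ (Z : Over S') (c : (Over.map f).obj Z ≅ W) (r₀ : Z ⟶ Y), (Over.map f).map r₀ = c.hom ≫ r :=
  ⟨Over.mk (r.left ≫ Y.hom),
    Over.isoMk (Iso.refl _) ((Category.id_comp _).trans ((Over.w r).symm.trans (Category.assoc _ _ _).symm)),
    Over.homMk r.left rfl, Over.OverMorphism.ext (Category.id_comp _).symm⟩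

omit [GrpObj G] in
theorem map_hom_ext {u v : Z ⟶ Y} (h : (Over.map f).map u = (Over.map f).map v) : u = v :=
  Over.OverMorphism.ext (congrArg (fun m => m.left) h)

/-- The projection isomorphism. -/
noncomputable def dl (G : Over S) (Y : Over S') : (Over.map f).obj (Red.bc f G ⊗ Y) ⟶ G ⊗ (Over.map f).obj Y :=
  lift ((adjE f _ G).symm (fst (Red.bc f G) Y)) ((Over.map f).map (snd (Red.bc f G) Y))

omit [GrpObj G] in
theorem map_lift_dl (g : (Over.map f).obj Z ⟶ G) (r : Z ⟶ Y) :
    (Over.map f).map (lift (adjE f Z G g) r) ≫ dl f G Y = lift g ((Over.map f).map r) := by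
  rw [dl, comp_lift, ← adjE_symm_comp_left, lift_fst, Equiv.symm_apply_apply, ← Functor.map_comp, lift_snd]

omit [GrpObj G] in
instance isIso_dl (G : Over S) (Y : Over S') : IsIso (dl f G Y) := by
  obtain ⟨Z, c, r₀, hr⟩ := exists_pres f (snd G ((Over.map f).obj Y))
  let j : G ⊗ (Over.map f).obj Y ⟶ (Over.map f).obj (Red.bc f G ⊗ Y) :=
    c.inv ≫ (Over.map f).map (lift (adjE f Z G (c.hom ≫ fst _ _)) r₀)
  have h1 : j ≫ dl f G Y = 𝟙 _ := by
    rw [Category.assoc, map_lift_dl, hr, ← comp_lift, lift_fst_snd, Category.comp_id, c.inv_hom_id]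
  obtain ⟨W, d, u, hu⟩ := exists_pres f (dl f G Y ≫ snd G ((Over.map f).obj Y))
  refine ⟨⟨j, ?_, h1⟩⟩
  have hlift : ∀ {V : Over S'} (u v : V ⟶ Red.bc f G ⊗ Y),
      (Over.map f).map u ≫ dl f G Y = (Over.map f).map v ≫ dl f G Y → u = v := by
    intro V u v h
    have eu : u = lift (adjE f V G ((adjE f V G).symm (u ≫ fst _ _))) (u ≫ snd _ _) := by simp
    have ev : v = lift (adjE f V G ((adjE f V G).symm (v ≫ fst _ _))) (v ≫ snd _ _) := by simp
    rw [eu, ev, map_lift_dl, map_lift_dl] at h
    apply CartesianMonoidalCategory.hom_ext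
    · exact (adjE f V G).symm.injective (by simpa using congrArg (· ≫ fst _ _) h)
    · exact map_hom_ext f (by simpa using congrArg (· ≫ snd _ _) h)
  let w : Red.bc f G ⊗ Y ⟶ Red.bc f G ⊗ Y := Over.homMk (dl f G Y ≫ j).left (by
    have e : dl f G Y ≫ j ≫ (Over.map f).map (snd (Red.bc f G) Y) = (Over.map f).map (snd (Red.bc f G) Y) := by
      have hj : j ≫ (Over.map f).map (snd (Red.bc f G) Y) = snd G _ := by
        rw [Category.assoc, ← Functor.map_comp, lift_snd, hr, c.inv_hom_id_assoc]
      rw [hj, dl, lift_snd]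
    have e2 := congrArg (fun m => m.left) e
    rw [← Over.w (snd (Red.bc f G) Y), ← Category.assoc]
    exact congrArg (· ≫ Y.hom) ((Category.assoc _ _ _).trans e2))
  have hw : (Over.map f).map w = dl f G Y ≫ j := Over.OverMorphism.ext rfl
  have := hlift w (𝟙 _) (by rw [hw, Category.assoc, h1, CategoryTheory.Functor.map_id]; simp)
  rw [← hw, this, CategoryTheory.Functor.map_id]

/-- Point-wise laws give an action. -/
def mkAction {S : Scheme.{u}} {G P : Over S} [GrpObj G] (act : G ⊗ P ⟶ P)
    (h1 : ∀ {Z} (r : Z ⟶ P), lift (1 : Z ⟶ G) r ≫ act = r)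
    (hm : ∀ {Z} (g h : Z ⟶ G) (r : Z ⟶ P), lift g (lift h r ≫ act) ≫ act = lift (g * h) r ≫ act) :
    AlgGrp.Action G P where
  act := act
  one_act := by
    rw [show η[G] ▷ P = lift 1 (snd _ P) by
      apply CartesianMonoidalCategory.hom_ext <;> simp [Hom.one_def, toUnit_unique (fst (𝟙_ _) P) (toUnit _)],
      h1, leftUnitor_hom]
  mul_act := by
    rw [show (μ[G] ▷ P) = lift (fst _ _ ≫ fst G G * fst _ _ ≫ snd G G) (snd _ P) by
        apply CartesianMonoidalCategory.hom_ext <;> simp [Hom.mul_def],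
      ← hm, ← Category.assoc (α_ G G P).hom]
    congr 1
    apply CartesianMonoidalCategory.hom_ext
    · simp
    · rw [lift_snd, Category.assoc, whiskerLeft_snd, ← Category.assoc]
      congr 1
      apply CartesianMonoidalCategory.hom_ext <;> simp

theorem mkAction_act {S : Scheme.{u}} {G P : Over S} [GrpObj G] (act : G ⊗ P ⟶ P)
    (h1 : ∀ {Z} (r : Z ⟶ P), lift (1 : Z ⟶ G) r ≫ act = r)
    (hm : ∀ {Z} (g h : Z ⟶ G) (r : Z ⟶ P), lift g (lift h r ≫ act) ≫ act = lift (g * h) r ≫ act) :
    (mkAction act h1 hm).act = act := rfl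

variable {f}

/-- The action of the base change on the base change. -/
noncomputable def bcAct (aX : AlgGrp.Action G X) : AlgGrp.Action (Red.bc f G) (Red.bc f X) :=
  mkAction (adjE f _ X (sm aX ((adjE f _ G).symm (fst _ _)) ((adjE f _ X).symm (snd _ _))))
    (fun {Z} r => by
      rw [← adjE_comp_left, comp_sm, ← adjE_symm_comp_left, ← adjE_symm_comp_left, lift_fst, lift_snd,
        ← adjE_one, Equiv.symm_apply_apply, sm_one, Equiv.apply_symm_apply])
    (fun {Z} g h r => by
      simp only [← adjE_comp_left, comp_sm, ← adjE_symm_comp_left, lift_fst, lift_snd, Equiv.symm_apply_apply,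
        sm_sm]
      obtain ⟨g, rfl⟩ := (adjE f Z G).surjective g
      obtain ⟨h, rfl⟩ := (adjE f Z G).surjective h
      rw [← adjE_mul, Equiv.symm_apply_apply, Equiv.symm_apply_apply, Equiv.symm_apply_apply])

theorem sm_bcAct (aX : AlgGrp.Action G X) (g : (Over.map f).obj Z ⟶ G) (x : (Over.map f).obj Z ⟶ X) :
    sm (bcAct aX) (adjE f Z G g) (adjE f Z X x) = adjE f Z X (sm aX g x) := by
  show lift _ _ ≫ adjE f _ X (sm aX _ _) = _
  rw [← adjE_comp_left, comp_sm, ← adjE_symm_comp_left, ← adjE_symm_comp_left, lift_fst, lift_snd,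
    Equiv.symm_apply_apply, Equiv.symm_apply_apply]

variable {P : Over S'}

/-- An action of the base change as an action of the group. -/
noncomputable def pushAct (a : AlgGrp.Action (Red.bc f G) P) : AlgGrp.Action G ((Over.map f).obj P) :=
  mkAction (inv (dl f G P) ≫ (Over.map f).map a.act)
    (fun {W} r => by
      obtain ⟨Z, c, r₀, hr⟩ := exists_pres f r
      rw [← cancel_epi c.hom, comp_lift_assoc, MonObj.comp_one, ← hr, ← map_lift_dl, adjE_one]
      simp only [Category.assoc, IsIso.hom_inv_id_assoc, ← Functor.map_comp]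
      rw [GrpSchLib.act_one])
    (fun {W} g h r => by
      obtain ⟨Z, c, r₀, hr⟩ := exists_pres f r
      simp only [← cancel_epi c.hom, comp_lift_assoc, comp_lift, MonObj.comp_mul, ← hr, ← map_lift_dl,
        Category.assoc, IsIso.hom_inv_id_assoc, ← Functor.map_comp]
      rw [adjE_mul, GrpSchLib.act_mul])

theorem sm_pushAct (a : AlgGrp.Action (Red.bc f G) P) (g : (Over.map f).obj Z ⟶ G) (r : Z ⟶ P) :
    sm (pushAct a) g ((Over.map f).map r) = (Over.map f).map (sm a (adjE f Z G g) r) := by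
  show lift _ _ ≫ inv (dl f G P) ≫ _ = _
  rw [← map_lift_dl, Category.assoc, IsIso.hom_inv_id_assoc, ← Functor.map_comp]
  rfl

theorem dl_pushAct (a : AlgGrp.Action (Red.bc f G) P) :
    dl f G P ≫ (pushAct a).act = (Over.map f).map a.act := by
  show _ ≫ inv (dl f G P) ≫ _ = _
  rw [IsIso.hom_inv_id_assoc]

end Groth.Agent.StkTwLib
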