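import Groth.Prelude.Def_AlgSt5
import Groth.Prelude.Def_StkCnt
import Groth.Agent.StkTwLib.RestrictAct
import Groth.Agent.StkMassLib.Fibre

/-! The fibres of a quotient stack over a scheme over the base as fibres of the restricted quotient stack. -/

set_option autoImplicit false
set_option linter.style.haveILetI false
set_option backward.isDefEq.respectTransparency false
set_option backward.isDefEq.respectTransparency.types false

universe u

open CategoryTheory CategoryTheory.Limits AlgebraicGeometry MonoidalCategory CartesianMonoidalCategory MonObj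

namespace Groth.Agent.StkTwLib

variable {S S' : Scheme.{u}} (f : S' ⟶ S) (K : Precoverage Scheme.{u}) {G X : Over S} [GrpObj G]
  (aX : AlgGrp.Action G X)

theorem isPullback_map_iff {A B C D : Over S'} (p : A ⟶ B) (q : A ⟶ C) (r : B ⟶ D) (s : C ⟶ D) :
    IsPullback p q r s ↔
      IsPullback ((Over.map f).map p) ((Over.map f).map q) ((Over.map f).map r) ((Over.map f).map s) := by
  refine ⟨fun h => ?_, fun h => ?_⟩
  · exact IsPullback.of_map (Over.forget S) (Over.OverMorphism.ext (congrArg (fun m => m.left) h.w))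
      (h.map (Over.forget S') :)
  · refine IsPullback.of_map (Over.forget S') (map_hom_ext f ?_) (h.map (Over.forget S) :)
    rw [Functor.map_comp, Functor.map_comp]
    exact h.w

theorem adjE_eqv {P : Over S'} (a : AlgGrp.Action (Red.bc f G) P) (φ : (Over.map f).obj P ⟶ X) :
    (pushAct a).act ≫ φ = (G ◁ φ) ≫ aX.act ↔
      a.act ≫ adjE f P X φ = (Red.bc f G ◁ adjE f P X φ) ≫ (bcAct aX).act := by
  have hG : dl f G P ≫ (G ◁ φ) ≫ aX.act =
      sm aX ((adjE f _ G).symm (fst (Red.bc f G) P)) ((Over.map f).map (snd (Red.bc f G) P) ≫ φ) := by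
    rw [dl, lift_whiskerLeft_assoc]
    rfl
  have hR : (Red.bc f G ◁ adjE f P X φ) ≫ (bcAct aX).act = adjE f _ X (dl f G P ≫ (G ◁ φ) ≫ aX.act) := by
    rw [hG, ← sm_bcAct, Equiv.apply_symm_apply, adjE_comp_left]
    show _ = lift _ _ ≫ _
    congr 1
  rw [hR, ← adjE_comp_left, (adjE f _ X).injective.eq_iff, ← dl_pushAct, Category.assoc, cancel_epi]

/-- An object of the restricted quotient stack as an object of the quotient stack. -/
noncomputable def pushObj (A : AlgSt.QuotObj K (Red.bc f G) (bcAct (f := f) aX)) : AlgSt.QuotObj K G aX where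
  base := (Over.map f).obj A.base
  P := (Over.map f).obj A.P
  act := pushAct A.act
  π := (Over.map f).map A.π
  cart := by
    refine IsPullback.of_iso ((isPullback_map_iff f _ _ _ _).1 A.cart) (asIso (dl f G A.P)) (Iso.refl _)
      (Iso.refl _) (Iso.refl _) ?_ ?_ (by simp) (by simp)
    · simp [dl_pushAct]
    · simp [dl]
  loc := A.loc
  φ := (adjE f A.P X).symm A.φ
  eqv := (adjE_eqv f aX A.act _).2 (by rw [Equiv.apply_symm_apply]; exact A.eqv)

theorem map_eqv_iff {P P' : Over S'} (a : AlgGrp.Action (Red.bc f G) P) (a' : AlgGrp.Action (Red.bc f G) P')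
    (t : P ⟶ P') : a.act ≫ t = (Red.bc f G ◁ t) ≫ a'.act ↔
      (pushAct a).act ≫ (Over.map f).map t = (G ◁ (Over.map f).map t) ≫ (pushAct a').act := by
  have e : (Over.map f).map (Red.bc f G ◁ t) ≫ dl f G P' = dl f G P ≫ (G ◁ (Over.map f).map t) := by
    rw [dl, dl, comp_lift, ← adjE_symm_comp_left, whiskerLeft_fst, ← Functor.map_comp, whiskerLeft_snd,
      lift_whiskerLeft, Functor.map_comp]
  rw [← cancel_epi (dl f G P), ← Category.assoc, dl_pushAct, ← reassoc_of% e, dl_pushAct, ← Functor.map_comp,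
    ← Functor.map_comp]
  exact ⟨fun h => by rw [h], fun h => map_hom_ext f h⟩

/-- A morphism of the restricted quotient stack as a morphism of the quotient stack. -/
noncomputable def pushHom {A B : AlgSt.QuotObj K (Red.bc f G) (bcAct (f := f) aX)} (h : A ⟶ B) :
    pushObj f K aX A ⟶ pushObj f K aX B where
  base := (Over.map f).map h.base
  top := (Over.map f).map h.top
  eqv := (map_eqv_iff f A.act B.act h.top).1 h.eqv
  cart := (isPullback_map_iff f _ _ _ _).1 h.cart
  wφ := by
    show _ ≫ (adjE f B.P X).symm B.φ = (adjE f A.P X).symm A.φ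
    rw [← adjE_symm_comp_left, h.wφ]

variable [K.HasIsos] (T : Over S')

/-- The functor on fibres. -/
noncomputable def fibPush : (AlgSt.QuotSt K (Red.bc f G) (bcAct (f := f) aX)).p.Fiber T ⥤
    (AlgSt.QuotSt K G aX).p.Fiber ((Over.map f).obj T) where
  obj A := ⟨pushObj f K aX A.1, congrArg (Over.map f).obj A.2⟩
  map {A B} φ := ⟨pushHom f K aX φ.1, IsHomLift.of_fac' _ _ _ (congrArg (Over.map f).obj A.2)
    (congrArg (Over.map f).obj B.2) (by
      show (Over.map f).map φ.1.base = _
      rw [StkMassLib.base_eq_id φ, eqToHom_map]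
      simp)⟩
  map_id A := Functor.Fiber.hom_ext (AlgSt.QuotObj.hom_ext ((Over.map f).map_id _) ((Over.map f).map_id _))
  map_comp φ ψ := Functor.Fiber.hom_ext (AlgSt.QuotObj.hom_ext ((Over.map f).map_comp _ _) ((Over.map f).map_comp _ _))

instance : (fibPush f K aX T).Faithful where
  map_injective {A B} φ ψ h := Functor.Fiber.hom_ext (AlgSt.QuotObj.hom_ext
    (map_hom_ext f (congrArg (fun m => AlgSt.QuotObj.Hom.base m) (congrArg Subtype.val h)))
    (map_hom_ext f (congrArg (fun m => AlgSt.QuotObj.Hom.top m) (congrArg Subtype.val h))))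

instance : (fibPush f K aX T).Full where
  map_surjective {A B} ψ := by
    have hb : ψ.1.base = (Over.map f).map (eqToHom (A.2.trans B.2.symm)) := by
      rw [eqToHom_map]
      exact StkMassLib.base_eq_id ψ
    have hw : ψ.1.top ≫ (Over.map f).map B.1.π = (Over.map f).map A.1.π ≫ (Over.map f).map (eqToHom (A.2.trans B.2.symm)) :=
      ψ.1.cart.w.trans (congrArg (_ ≫ ·) hb)
    let t : A.1.P ⟶ B.1.P := Over.homMk ψ.1.top.left (by
      have hl : ψ.1.top.left ≫ B.1.π.left = A.1.π.left ≫ (eqToHom (A.2.trans B.2.symm)).left :=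
        congrArg (fun m => m.left) hw
      rw [← Over.w B.1.π, reassoc_of% hl]
      exact (congrArg (A.1.π.left ≫ ·) (Over.w (eqToHom (A.2.trans B.2.symm) : A.1.base ⟶ B.1.base))).trans
        (Over.w A.1.π))
    have ht : (Over.map f).map t = ψ.1.top := Over.OverMorphism.ext rfl
    refine ⟨⟨⟨eqToHom (A.2.trans B.2.symm), t, (map_eqv_iff f _ _ t).2 (by rw [ht]; exact ψ.1.eqv),
      (isPullback_map_iff f _ _ _ _).2 (by rw [ht, ← hb]; exact ψ.1.cart), ?_⟩,
      IsHomLift.of_fac' _ _ _ A.2 B.2 (by simp only [Category.id_comp, eqToHom_trans]; rfl)⟩,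
      Functor.Fiber.hom_ext (AlgSt.QuotObj.hom_ext hb.symm ht)⟩
    refine (adjE f A.1.P X).symm.injective ?_
    rw [adjE_symm_comp_left, ht]
    exact ψ.1.wφ

instance : (fibPush f K aX T).EssSurj where
  mem_essImage := by
    rintro ⟨⟨B, P, act, π, cart, loc, φ, eqv⟩, hA⟩
    cases hA
    obtain ⟨P', c, π', hπ⟩ := exists_pres f π
    have hw0 : (dl f G P' ≫ (G ◁ c.hom) ≫ act.act ≫ c.inv) ≫ (Over.map f).map π' =
        (Over.map f).map (snd (Red.bc f G) P' ≫ π') := by
      simp only [Category.assoc, hπ, c.inv_hom_id_assoc, cart.w, whiskerLeft_snd_assoc, dl, lift_snd_assoc,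
        Functor.map_comp]
    let act' : Red.bc f G ⊗ P' ⟶ P' := Over.homMk (dl f G P' ≫ (G ◁ c.hom) ≫ act.act ≫ c.inv).left (by
      have hl := congrArg (fun m => m.left ≫ T.hom) hw0
      rw [← Over.w (snd (Red.bc f G) P' ≫ π'), ← Over.w π', ← Category.assoc]
      exact hl)
    have hact : (Over.map f).map act' = dl f G P' ≫ (G ◁ c.hom) ≫ act.act ≫ c.inv := Over.OverMorphism.ext rfl
    have hsm : ∀ {Z} (g : (Over.map f).obj Z ⟶ G) (r : Z ⟶ P'), (Over.map f).map (lift (adjE f Z G g) r ≫ act') =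
        sm act g ((Over.map f).map r ≫ c.hom) ≫ c.inv := by
      intro Z g r
      rw [Functor.map_comp, hact, reassoc_of% (map_lift_dl f g r), lift_whiskerLeft_assoc]
      simp only [sm, Category.assoc]
    let a' : AlgGrp.Action (Red.bc f G) P' := mkAction act' (fun {Z} r => map_hom_ext f (by
        rw [← adjE_one, hsm, sm_one, Category.assoc, c.hom_inv_id, Category.comp_id]))
      (fun {Z} g h r => map_hom_ext f (by
        obtain ⟨g, rfl⟩ := (adjE f Z G).surjective g
        obtain ⟨h, rfl⟩ := (adjE f Z G).surjective h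
        rw [hsm, hsm, Category.assoc, c.inv_hom_id, Category.comp_id, sm_sm, ← adjE_mul, hsm]))
    have hpa : (pushAct a').act = (G ◁ c.hom) ≫ act.act ≫ c.inv := by
      rw [← cancel_epi (dl f G P'), dl_pushAct]
      exact hact
    have hcart : IsPullback a'.act (snd (Red.bc f G) P') π' π' := by
      refine (isPullback_map_iff f _ _ _ _).2 ?_
      refine IsPullback.of_iso cart (asIso (dl f G P') ≪≫ whiskerLeftIso G c).symm c.symm c.symm (Iso.refl _) ?_ ?_
        ?_ ?_
      · show act.act ≫ c.inv = ((whiskerLeftIso G c).inv ≫ inv (dl f G P')) ≫ (Over.map f).map act'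
        rw [hact, whiskerLeftIso_inv, Category.assoc, IsIso.inv_hom_id_assoc,
          ← MonoidalCategory.whiskerLeft_comp_assoc, c.inv_hom_id, MonoidalCategory.whiskerLeft_id, Category.id_comp]
      · show snd G P ≫ c.inv = ((whiskerLeftIso G c).inv ≫ inv (dl f G P')) ≫ (Over.map f).map (snd _ _)
        have e : inv (dl f G P') ≫ (Over.map f).map (snd (Red.bc f G) P') = snd G ((Over.map f).obj P') := by
          rw [IsIso.inv_comp_eq, dl, lift_snd]
        rw [Category.assoc, e, whiskerLeftIso_inv, whiskerLeft_snd]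
      · simp [hπ]
      · simp [hπ]
    have hloc : NonAbH1.IsLocallyTrivialFor K (Over.mk π'.left : Over T.left) := by
      have e : π'.left = c.hom.left ≫ π.left := congrArg (fun m => m.left) hπ
      obtain ⟨R, hR, hs⟩ := loc
      refine ⟨R, hR, fun S'' g hg => ?_⟩
      obtain ⟨s, hs'⟩ := hs g hg
      refine ⟨s ≫ c.inv.left, ?_⟩
      show (s ≫ c.inv.left) ≫ π'.left = g
      rw [e, Category.assoc, ← Over.comp_left_assoc, c.inv_hom_id]
      exact (congrArg (s ≫ ·) (Category.id_comp _)).trans hs'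
    let A' : (AlgSt.QuotSt K (Red.bc f G) (bcAct (f := f) aX)).p.Fiber T :=
      ⟨⟨T, P', a', π', hcart, hloc, adjE f P' X (c.hom ≫ φ), (adjE_eqv f aX a' _).1 (by
        rw [hpa, Category.assoc, Category.assoc, c.inv_hom_id_assoc, eqv, MonoidalCategory.whiskerLeft_comp_assoc])⟩,
        rfl⟩
    let h : (fibPush f K aX T).obj A' ⟶ ⟨⟨(Over.map f).obj T, P, act, π, cart, loc, φ, eqv⟩, rfl⟩ :=
      ⟨⟨𝟙 _, c.hom, by
          show (pushAct a').act ≫ c.hom = _
          rw [hpa, Category.assoc, Category.assoc, c.inv_hom_id, Category.comp_id],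
        IsPullback.of_horiz_isIso ⟨by
          show c.hom ≫ π = (Over.map f).map π' ≫ 𝟙 _
          rw [Category.comp_id, hπ]⟩, by
          show c.hom ≫ φ = (adjE f P' X).symm (adjE f P' X (c.hom ≫ φ))
          rw [Equiv.symm_apply_apply]⟩,
        IsHomLift.of_fac' _ _ _ rfl rfl (by simp; rfl)⟩
    haveI := StkMassLib.isIso_hom h
    exact ⟨A', ⟨asIso h⟩⟩

instance : (fibPush f K aX T).IsEquivalence where

/-- The count does not change along an equivalence. -/
theorem count_congr {C : Type*} [Category C] {D : Type*} [Category D] (F : C ⥤ D) [F.IsEquivalence]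
    (hC : StkCnt.IsEssFinite C) (hD : StkCnt.IsEssFinite D) : StkCnt.count C hC = StkCnt.count D hD := by
  haveI := hC.finite_isoCl
  letI := Fintype.ofFinite (StkCnt.IsoCl C)
  let q : StkCnt.IsoCl C → StkCnt.IsoCl D :=
    Quotient.map F.obj fun _ _ ⟨i⟩ => ⟨F.mapIso i⟩
  have hq : Function.Bijective q := by
    refine ⟨fun a b => Quotient.inductionOn₂ a b fun x y h => Quotient.sound ?_, fun d => Quotient.inductionOn d fun y =>
      ⟨StkCnt.IsoCl.mk (F.objPreimage y), Quotient.sound ⟨F.objObjPreimageIso y⟩⟩⟩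
    obtain ⟨i⟩ := Quotient.exact h
    exact ⟨F.preimageIso i⟩
  letI : Fintype (StkCnt.IsoCl D) := Fintype.ofEquiv _ (Equiv.ofBijective q hq)
  rw [StkCnt.count_eq_sum hC, StkCnt.count_eq_sum hD, ← (Equiv.ofBijective q hq).sum_comp]
  refine Finset.sum_congr rfl fun c _ => Quotient.inductionOn c fun x => ?_
  congr 2
  exact Nat.card_congr (Functor.FullyFaithful.ofFullyFaithful F).isoEquiv

theorem isEssFinite_congr {C : Type*} [Category C] {D : Type*} [Category D] (F : C ⥤ D) [F.IsEquivalence]
    (hD : StkCnt.IsEssFinite D) : StkCnt.IsEssFinite C := by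
  haveI := hD.finite_isoCl
  let q : StkCnt.IsoCl C → StkCnt.IsoCl D := Quotient.map F.obj fun _ _ ⟨i⟩ => ⟨F.mapIso i⟩
  have hq : Function.Injective q := fun a b => Quotient.inductionOn₂ a b fun x y h => Quotient.sound (by
    obtain ⟨i⟩ := Quotient.exact h
    exact ⟨F.preimageIso i⟩)
  refine ⟨Finite.of_injective q hq, fun x y => ?_⟩
  haveI := hD.finite_hom (F.obj x) (F.obj y)
  exact Finite.of_injective _ (Functor.map_injective F)

end Groth.Agent.StkTwLib
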